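import Cfsg.Agent.Lib.O8Three.Wreath.Code
import Mathlib.Algebra.Group.Subgroup.Basic

/-!
S3372: a subgroup `M` of shape `2⁸:(Sym(3) ≀ 3)` or `2⁸:(Sym(3) ≀ Sym(3))`, controlling the fusion of the
elements of order three of its base group.
-/

set_option autoImplicit false

namespace Cfsg.Agent.O8Three.Wreath

open Cfsg.Agent.O8Three.Closed (V Code)

/-- The hypotheses on `M`. Only elements of order three inducing maps without permutation of the factors have
controlled fusion: this includes that they are not conjugate to elements permuting the factors. -/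
structure Hyp (X : Type*) [Group X] where
  /-- the subgroup -/
  M : Subgroup X
  /-- the vectors -/
  f : V → X
  f_xor : ∀ a b, f (a ^^^ b) = f a * f b
  f_inj : Function.Injective f
  f_mem : ∀ v, f v ∈ M
  act : ∀ m ∈ M, ∃ w : CodeW, ∀ v, m * f v * m⁻¹ = f (appW w v)
  real : ∀ c : Code, ∃ m ∈ M, ∀ v, m * f v * m⁻¹ = f (appW (c, 0) v)
  cycle : ∃ m ∈ M, ∀ v, m * f v * m⁻¹ = f (appW (Closed.eC, 4) v)
  cen : ∀ m ∈ M, (∀ v, m * f v = f v * m) → ∃ v, f v = m
  strong : ∀ x ∈ M, ∀ c : Code, (∀ v, x * f v * x⁻¹ = f (appW (c, 0) v)) → x ^ 3 = 1 → x ≠ 1 →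
    ∀ g : X, g * x * g⁻¹ ∈ M → g ∈ M

end Cfsg.Agent.O8Three.Wreath
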