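import Cfsg.Agent.Lib.O8Three.Wreath.Control
import Mathlib.GroupTheory.Transfer

/-!
S3372: without exchanges of factors the transfer extends the rotation of the factors.
-/

set_option autoImplicit false
set_option linter.style.haveILetI false

namespace Cfsg.Agent.O8Three.Wreath

open Subgroup Multiplicative
open Cfsg.Agent.O8Three.Closed (V Code)

universe u

theorem three_facts : (∀ a : Multiplicative (ZMod 3), a * a = 1 → a = 1) ∧
    (∀ a : Multiplicative (ZMod 3), a * a * (a * a) = 1 → a = 1) := by decide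

theorem rot_solve : ∀ p q r : Fin 6, sgn p = 0 → sgn q = 0 → sgn r = 0 → mulP p q = r → rot q = rot r → p = 0 := by
  decide +kernel

theorem dY_sq : sgn (mulW dY dY).2 = 0 ∧ rot (mulW dY dY).2 = 2 ∧ dY.2 ∈ ([0, 4, 5] : List (Fin 6)) := by
  decide +kernel

theorem zmod_three : ∀ a : ZMod 3, a = 0 ∨ a = 1 ∨ a = 2 := by decide

theorem base_sq_code : Closed.mulC (1, 1, 1) (1, 1, 1) = Closed.eC := by decide +kernel

namespace Hyp

variable {X : Type u} [Group X] [Finite X] (P : Hyp X)

/-- **The transfer extends the rotation.** -/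
theorem exists_rotation (heven : ∀ m ∈ P.M, ∀ w, P.Acts m w → sgn w.2 = 0) : ∃ W : X →* Multiplicative (ZMod 3),
    ∀ m ∈ P.M, ∀ w, P.Acts m w → W m = ofAdd (rot w.2) := by
  classical
  let φ : P.M →* Multiplicative (ZMod 3) :=
    { toFun := fun m => ofAdd (rot (Classical.choose (P.act m m.2)).2)
      map_one' := by
        rw [P.acts_unique (Classical.choose_spec (P.act (1 : P.M) (one_mem _))) P.acts_one]
        rfl
      map_mul' := fun m n => by
        have hm := Classical.choose_spec (P.act m m.2)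
        have hn := Classical.choose_spec (P.act n n.2)
        rw [P.acts_unique (Classical.choose_spec (P.act (m * n : P.M) (m * n).2)) (P.acts_comp hm hn)]
        exact congrArg ofAdd (rot_mul _ _ (heven m m.2 _ hm) (heven n n.2 _ hn)) }
  have φ_eq : ∀ m (hm : m ∈ P.M) w, P.Acts m w → φ ⟨m, hm⟩ = ofAdd (rot w.2) := fun m hm w hw => by
    show ofAdd (rot (Classical.choose (P.act m hm)).2) = _
    rw [P.acts_unique (Classical.choose_spec (P.act m hm)) hw]
  set W := φ.transfer with hW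
  -- an element of order nine over the cycle
  obtain ⟨m, hmM, hma⟩ := P.in_even dY dY_sq.2.2
  have hm3 : P.Acts (m * (m * m)) ((4, 4, 4), 0) := dY_spec.2.2.1 ▸ P.acts_comp hma (P.acts_comp hma hma)
  set m9 := m * (m * m) * (m * (m * m) * (m * (m * m))) with hm9
  have hm9M : m9 ∈ P.M := mul_mem (mul_mem hmM (mul_mem hmM hmM))
    (mul_mem (mul_mem hmM (mul_mem hmM hmM)) (mul_mem hmM (mul_mem hmM hmM)))
  have hm9a : P.Acts m9 eW := by
    have := P.acts_comp hm3 (P.acts_comp hm3 hm3)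
    rwa [mulW_base, mulW_base, dY_spec.2.2.2.1] at this
  have hm9p : m9 = m ^ 9 := by rw [hm9]; simp [pow_succ, mul_assoc]
  set y := m9 * m with hy
  have hyM : y ∈ P.M := mul_mem hm9M hmM
  have hya : P.Acts y dY := by
    have := P.acts_comp hm9a hma
    rwa [(mulW_eW dY).2] at this
  have hy9 : y ^ 9 = 1 := by
    rw [hy, hm9p, ← pow_succ, ← pow_mul, show (9 + 1) * 9 = 9 * 2 * 5 from rfl, pow_mul, pow_mul, pow_two,
      ← hm9p, P.sq_of_eW hm9M hm9a, one_pow]
  have hy3M : y ^ 3 ∈ P.M := pow_mem hyM 3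
  have hy3a : P.Acts (y ^ 3) ((4, 4, 4), 0) := by
    rw [pow_three]
    exact dY_spec.2.2.1 ▸ P.acts_comp hya (P.acts_comp hya hya)
  have hy31 : y ^ 3 ≠ 1 := fun e => dY_spec.2.2.2.2
    (congrArg Prod.fst (P.acts_unique (e ▸ hy3a) P.acts_one))
  have hfix : ∀ g : X, g⁻¹ * y ^ 3 * g ∈ P.M → g ∈ P.M := fun g hg => by
    have := P.strong _ hy3M (4, 4, 4) hy3a (by rw [← pow_mul]; exact hy9) hy31 g⁻¹ (by rwa [inv_inv])
    simpa using inv_mem this
  have hWy : W y = ofAdd 1 := by
    letI := P.M.fintypeQuotientOfFiniteIndex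
    rw [hW, MonoidHom.transfer_eq_prod_quotient_orbitRel_zpowers_quot]
    set q0 : Quotient (MulAction.orbitRel (zpowers y) (X ⧸ P.M)) := Quotient.mk'' ((1 : X) : X ⧸ P.M) with hq0
    have hbase : ∀ q : Quotient (MulAction.orbitRel (zpowers y) (X ⧸ P.M)), q.out.out ∈ P.M → q = q0 := by
      intro q hq
      have e : q.out = ((1 : X) : X ⧸ P.M) := by
        rw [← QuotientGroup.out_eq' q.out, QuotientGroup.eq, mul_one]
        exact inv_mem hq
      rw [← Quotient.out_eq' q, e, hq0]
    rw [Fintype.prod_eq_single q0 fun q hq => ?_]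
    · have h0 : q0.out = ((1 : X) : X ⧸ P.M) := by
        obtain ⟨⟨z, hz⟩, e⟩ := Quotient.exact' (Quotient.out_eq' q0)
        rw [← e]
        show ((z * 1 : X) : X ⧸ P.M) = _
        rw [QuotientGroup.eq, mul_one, mul_one]
        exact inv_mem ((zpowers_le.2 hyM) hz)
      have hg : q0.out.out ∈ P.M := by
        have h1 : (q0.out.out : X ⧸ P.M) = ((1 : X) : X ⧸ P.M) := by rw [QuotientGroup.out_eq', h0]
        rw [QuotientGroup.eq, mul_one] at h1
        simpa using inv_mem h1
      have hp : Function.minimalPeriod (y • ·) q0.out = 1 := by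
        rw [Function.minimalPeriod_eq_one_iff_isFixedPt]
        show y • q0.out = q0.out
        rw [h0]
        show ((y * 1 : X) : X ⧸ P.M) = _
        rw [QuotientGroup.eq, mul_one, mul_one]
        exact inv_mem hyM
      have e : (⟨q0.out.out⁻¹ * y ^ Function.minimalPeriod (y • ·) q0.out * q0.out.out,
          QuotientGroup.out_conj_pow_minimalPeriod_mem P.M y q0.out⟩ : P.M) =
            ⟨q0.out.out, hg⟩⁻¹ * ⟨y, hyM⟩ * ⟨q0.out.out, hg⟩ := Subtype.ext (by simp [hp])
      rw [e, map_mul, map_mul, map_inv, mul_comm (φ ⟨q0.out.out, hg⟩)⁻¹, inv_mul_cancel_right, φ_eq y hyM dY hya,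
        dY_spec.1]
    · have hp := Function.IsPeriodicPt.minimalPeriod_dvd (f := (y • · : X ⧸ P.M → X ⧸ P.M)) (x := q.out) (n := 9) (by
        rw [Function.IsPeriodicPt, Function.IsFixedPt, smul_iterate]
        show y ^ 9 • q.out = q.out
        rw [hy9, one_smul])
      have hout : q.out.out ∉ P.M := fun h => hq (hbase q h)
      have hmem := QuotientGroup.out_conj_pow_minimalPeriod_mem P.M y q.out
      obtain ⟨i, hi, hpi⟩ := (Nat.dvd_prime_pow Nat.prime_three (m := 2)).1 hp
      rw [← map_one φ]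
      refine congrArg φ (Subtype.ext ?_)
      show q.out.out⁻¹ * y ^ Function.minimalPeriod (y • ·) q.out * q.out.out = 1
      interval_cases i
      · exfalso
        rw [hpi, pow_zero, pow_one] at hmem
        refine hout (hfix _ ?_)
        have := pow_mem hmem 3
        rwa [show (q.out.out⁻¹ * y * q.out.out) ^ 3 = q.out.out⁻¹ * y ^ 3 * q.out.out by
          rw [pow_three, pow_three]; group] at this
      · exfalso
        rw [hpi, pow_one] at hmem
        exact hout (hfix _ hmem)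
      · rw [hpi, show 3 ^ 2 = 9 from rfl, hy9, mul_one, inv_mul_cancel]
  have hvec : ∀ v, W (P.f v) = 1 := fun v => three_facts.1 _ (by rw [← map_mul, P.f_self, map_one])
  obtain ⟨s, hsM, hsa⟩ := P.in_base (1, 1, 1)
  have hWs : W s = 1 := by
    have h2 := P.acts_comp hsa hsa
    rw [mulW_base, base_sq_code] at h2
    obtain ⟨v, hv⟩ := P.eW_of_acts (mul_mem hsM hsM) h2
    exact three_facts.1 _ (by rw [← map_mul, ← hv, hvec])
  have hbase : ∀ n ∈ P.M, ∀ c : Code, P.Acts n (c, 0) → W n = 1 := by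
    intro n hn c hc
    have h1 := P.acts_comp (P.acts_comp hsa (P.acts_comp (P.acts_comp hc hc) hsa)) (P.acts_comp hc hc)
    simp only [mulW_base] at h1
    rw [base_sq_inv c] at h1
    obtain ⟨v, hv⟩ := P.eW_of_acts (mul_mem (mul_mem hsM (mul_mem (mul_mem hn hn) hsM)) (mul_mem hn hn)) h1
    have := congrArg W hv
    rw [hvec] at this
    simp only [map_mul, hWs, one_mul, mul_one] at this
    exact three_facts.2 _ this.symm
  refine ⟨W, fun n hn w hw => ?_⟩
  obtain ⟨n0, hn0, w0, hn0a, hr, hs0, hW0⟩ : ∃ n0 ∈ P.M, ∃ w0, P.Acts n0 w0 ∧ rot w0.2 = rot w.2 ∧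
      sgn w0.2 = 0 ∧ W n0 = ofAdd (rot w.2) := by
    rcases zmod_three (rot w.2) with e | e | e <;> rw [e]
    · exact ⟨1, one_mem _, eW, P.acts_one, rfl, rfl, by rw [map_one]; rfl⟩
    · exact ⟨y, hyM, dY, hya, dY_spec.1, dY_spec.2.1, hWy⟩
    · refine ⟨y * y, mul_mem hyM hyM, _, P.acts_comp hya hya, dY_sq.2.1, dY_sq.1, ?_⟩
      rw [map_mul, hWy]; rfl
  obtain ⟨i, hi⟩ := P.act (n * n0⁻¹) (mul_mem hn (inv_mem hn0))
  have h1 := P.acts_comp hi hn0a
  rw [inv_mul_cancel_right] at h1
  have hp := congrArg Prod.snd (P.acts_unique h1 hw)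
  have hi0 := rot_solve i.2 w0.2 w.2 (heven _ (mul_mem hn (inv_mem hn0)) i hi) hs0 (heven n hn w hw) hp hr
  obtain ⟨ic, ip⟩ := i
  simp only at hi0
  subst hi0
  rw [show n = n * n0⁻¹ * n0 by group, map_mul W, hbase _ (mul_mem hn (inv_mem hn0)) ic hi, one_mul, hW0]

end Hyp

end Cfsg.Agent.O8Three.Wreath
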