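import Cfsg.Agent.Lib.O8Three.Wreath.Two
import Cfsg.Agent.Lib.O8Three.Wreath.Three
import Cfsg.Agent.Lib.O8Three.Closed.Main

/-!
S3372: a subgroup of shape `2⁸:(Sym(3) ≀ 3)` or `2⁸:(Sym(3) ≀ Sym(3))` controlling the fusion of the elements of
order three of its base group is the whole group.
-/

set_option autoImplicit false

namespace Cfsg.Agent.O8Three.Wreath

open Subgroup Multiplicative
open Cfsg.Agent.O8Three.Closed (V Code)

universe u

theorem app_base : ∀ c : Code, ∀ v : V, appW (c, 0) v = Closed.app c v := by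
  intro c v
  show Closed.app c (Closed.fz (permN 0) v) = _
  congr 1
  exact Fin.ext (Nat.mod_eq_of_lt v.isLt)

theorem odd_to_dT : ∀ p : Fin 6, sgn p ≠ 0 →
    ∃ q ∈ ([0, 4, 5] : List (Fin 6)), mulW (Closed.eC, q) (Closed.eC, p) = dT := by decide +kernel

theorem inv_base : ∀ c : Code, ∀ p, mulW (invC c, 0) (c, p) = ((Closed.eC, p) : CodeW) := by decide +kernel

theorem sgn_eW : sgn eW.2 = 0 ∧ rot eW.2 = 0 ∧ sgn dS.2 = 0 ∧ (sgn 0 = 0 ∧ rot 0 = 0) := by decide +kernel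

namespace Hyp

variable {X : Type u} [Group X] (P : Hyp X)

/-- The hypotheses for a subgroup meeting `M` in the elements without exchanges. -/
def restrict (K : Subgroup X) (h : ∀ m ∈ P.M, ∀ w, P.Acts m w → (m ∈ K ↔ sgn w.2 = 0)) : Hyp K where
  M := P.M.subgroupOf K
  f v := ⟨P.f v, (h _ (P.f_mem v) eW (P.acts_f v)).2 sgn_eW.1⟩
  f_xor a b := Subtype.ext (P.f_xor a b)
  f_inj a b e := P.f_inj (congrArg Subtype.val e)
  f_mem v := mem_subgroupOf.2 (P.f_mem v)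
  act m hm := (P.act (m : X) (mem_subgroupOf.1 hm)).imp fun _ hw v => Subtype.ext (hw v)
  real c := by
    obtain ⟨m, hm, hw⟩ := P.real c
    exact ⟨⟨m, (h m hm _ hw).2 sgn_eW.2.2.2.1⟩, mem_subgroupOf.2 hm, fun v => Subtype.ext (hw v)⟩
  cycle := by
    obtain ⟨m, hm, hw⟩ := P.cycle
    exact ⟨⟨m, (h m hm _ hw).2 sgn_eW.2.2.1⟩, mem_subgroupOf.2 hm, fun v => Subtype.ext (hw v)⟩
  cen m hm hc := by
    obtain ⟨v, hv⟩ := P.cen (m : X) (mem_subgroupOf.1 hm) fun v => congrArg Subtype.val (hc v)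
    exact ⟨v, Subtype.ext hv⟩
  strong x hx c hc h3 h1 g hg :=
    mem_subgroupOf.2 (P.strong (x : X) (mem_subgroupOf.1 hx) c (fun v => congrArg Subtype.val (hc v))
      (congrArg Subtype.val h3) (fun e => h1 (Subtype.ext e)) (g : X) (mem_subgroupOf.1 hg))

/-- The hypotheses of the base theorem for a subgroup meeting `M` in the elements fixing all factors. -/
def toClosed (K : Subgroup X) (h : ∀ m ∈ P.M, ∀ w, P.Acts m w → (m ∈ K ↔ w.2 = 0)) : Closed.Hyp K where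
  M := P.M.subgroupOf K
  f v := ⟨P.f v, (h _ (P.f_mem v) eW (P.acts_f v)).2 rfl⟩
  f_xor a b := Subtype.ext (P.f_xor a b)
  f_inj a b e := P.f_inj (congrArg Subtype.val e)
  f_mem v := mem_subgroupOf.2 (P.f_mem v)
  act m hm := by
    obtain ⟨⟨c, p⟩, hw⟩ := P.act (m : X) (mem_subgroupOf.1 hm)
    obtain rfl : p = 0 := (h _ (mem_subgroupOf.1 hm) _ hw).1 m.2
    exact ⟨c, fun v => Subtype.ext (by rw [← app_base c v]; exact hw v)⟩
  real c := by
    obtain ⟨m, hm, hw⟩ := P.real c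
    exact ⟨⟨m, (h m hm _ hw).2 rfl⟩, mem_subgroupOf.2 hm,
      fun v => Subtype.ext (by rw [← app_base c v]; exact hw v)⟩
  cen m hm hc := by
    obtain ⟨v, hv⟩ := P.cen (m : X) (mem_subgroupOf.1 hm) fun v => congrArg Subtype.val (hc v)
    exact ⟨v, Subtype.ext hv⟩
  strong x hx h3 h1 g hg := by
    obtain ⟨⟨c, p⟩, hw⟩ := P.act (x : X) (mem_subgroupOf.1 hx)
    obtain rfl : p = 0 := (h _ (mem_subgroupOf.1 hx) _ hw).1 x.2
    exact mem_subgroupOf.2 (P.strong (x : X) (mem_subgroupOf.1 hx) c hw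
      (congrArg Subtype.val h3) (fun e => h1 (Subtype.ext e)) (g : X) (mem_subgroupOf.1 hg))

/-- A kernel of a homomorphism whose values are attained on `M`. -/
theorem top_of_kernel {A : Type} [CommGroup A] (W : X →* A) (h : ∀ g : X, ∃ m ∈ P.M, W m = W g)
    (hK : P.M.subgroupOf W.ker = ⊤) : P.M = ⊤ := by
  refine eq_top_iff.2 fun g _ => ?_
  obtain ⟨m, hm, e⟩ := h g
  have h1 : m⁻¹ * g ∈ W.ker := by rw [MonoidHom.mem_ker, map_mul, map_inv, e, inv_mul_cancel]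
  have h2 : m⁻¹ * g ∈ P.M := mem_subgroupOf.1 (hK ▸ mem_top (⟨_, h1⟩ : W.ker))
  simpa using mul_mem hm h2

variable [Finite X]

/-- The theorem without exchanges of the factors. -/
theorem eq_top_of_even (heven : ∀ m ∈ P.M, ∀ w, P.Acts m w → sgn w.2 = 0) : P.M = ⊤ := by
  obtain ⟨W, hW⟩ := P.exists_rotation heven
  refine P.top_of_kernel W (fun g => ?_)
    (P.toClosed W.ker fun m hm w hw => by
      rw [MonoidHom.mem_ker, hW m hm w hw]
      constructor
      · intro e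
        exact perm_zero w.2 (heven m hm w hw) (ofAdd_eq_one.1 e)
      · intro e
        rw [e, sgn_eW.2.2.2.2]
        rfl).eq_top
  obtain ⟨m, hm, hma⟩ := P.cycle
  obtain ⟨a, ha⟩ : ∃ a : ZMod 3, ofAdd a = W g := ⟨toAdd (W g), rfl⟩
  refine ⟨m ^ a.val, pow_mem hm _, ?_⟩
  rw [map_pow, hW m hm _ hma, ← ha, show rot ((Closed.eC, 4) : CodeW).2 = 1 from rfl, ← ofAdd_nsmul, nsmul_one, ZMod.natCast_zmod_val]

/-- **`M` is everything.** -/
theorem eq_top : P.M = ⊤ := by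
  by_cases heven : ∀ m ∈ P.M, ∀ w, P.Acts m w → sgn w.2 = 0
  · exact P.eq_top_of_even heven
  push Not at heven
  obtain ⟨m, hm, ⟨c, p⟩, hw, hp⟩ := heven
  have hIp : P.In (Closed.eC, p) := inv_base c p ▸ In.mul (P.in_base (invC c)) ⟨m, hm, hw⟩
  obtain ⟨q, hq, e⟩ := odd_to_dT p hp
  have hT : P.In dT := e ▸ In.mul (P.in_even _ hq) hIp
  obtain ⟨W, hW⟩ := P.exists_parity hT
  refine P.top_of_kernel W (fun g => ?_) ?_
  · obtain ⟨t, ht, hta⟩ := hT
    rcases (by decide : ∀ a : Multiplicative (ZMod 2), a = 1 ∨ a = ofAdd 1) (W g) with e | e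
    · exact ⟨1, one_mem _, by rw [map_one, e]⟩
    · exact ⟨t, ht, by rw [hW t ht _ hta, e]; rfl⟩
  · have h : ∀ m ∈ P.M, ∀ w, P.Acts m w → (m ∈ W.ker ↔ sgn w.2 = 0) := fun m hm w hw => by
      rw [MonoidHom.mem_ker, hW m hm w hw]
      exact ofAdd_eq_one
    refine (P.restrict W.ker h).eq_top_of_even ?_
    intro n hn w hw
    exact (h _ (mem_subgroupOf.1 hn) w fun v => congrArg Subtype.val (hw v)).1 n.2

end Hyp

end Cfsg.Agent.O8Three.Wreath
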