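import Cfsg.Agent.Lib.O8Three.Wreath.Code
import Mathlib.Data.ZMod.Basic

/-!
S3372: kernel-checked facts on the codes with permutations of the factors.
-/

set_option autoImplicit false
set_option maxRecDepth 100000
set_option maxHeartbeats 4000000
set_option synthInstance.maxSize 1000

namespace Cfsg.Agent.O8Three.Wreath

open Cfsg.Agent.O8Three.Closed (V Code key)

/-- The inverse of a map of the plane. -/
def invS (s : Fin 6) : Fin 6 := ([0, 1, 2, 3, 5, 4] : List (Fin 6)).getD s.val 0

/-- The inverse of a code without permutation. -/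
def invC (c : Code) : Code := (invS c.1, invS c.2.1, invS c.2.2)

/-- The inverse of a code. -/
def invW (w : CodeW) : CodeW := (shiftC (invS w.2) (invC w.1), invS w.2)

theorem mulW_inv : ∀ w : CodeW, mulW (invW w) w = eW ∧ mulW w (invW w) = eW := by decide +kernel

theorem mulW_eW : ∀ w : CodeW, mulW w eW = w ∧ mulW eW w = w := by decide +kernel

theorem appW_eW : ∀ v : V, appW eW v = v := by decide +kernel

theorem key_one : ∀ w : CodeW, key (appW w) = key id → w = eW := by decide +kernel

/-- The fixed vectors of a code. -/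
def fixL (d : CodeW) : List V := (List.finRange 256).filter fun v => decide (appW d v = v)

/-- Fixed vectors are commutators. -/
def Free (d : CodeW) : Prop :=
  ∀ v : V, appW d v = v → v ∈ (List.finRange 256).map fun b => appW d b ^^^ b

instance (d : CodeW) : Decidable (Free d) := by unfold Free; infer_instance

/-- No vector but zero is fixed. -/
def Fpf (d : CodeW) : Prop := ∀ v : V, appW d v = v → v = 0

instance (d : CodeW) : Decidable (Fpf d) := by unfold Fpf; infer_instance

/-- The codes commuting with `d` do not cycle the factors. -/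
def NoCycle (d : CodeW) : Prop := ∀ w : CodeW, mulW w d = mulW d w → w.2 ≠ 4 ∧ w.2 ≠ 5

instance (d : CodeW) : Decidable (NoCycle d) := by unfold NoCycle; infer_instance

/-- A code of order three whose commuting codes do not cycle the factors. -/
def Pin (c : Code) : Prop :=
  Closed.mulC c (Closed.mulC c c) = Closed.eC ∧ c ≠ Closed.eC ∧ NoCycle (c, 0)

instance (c : Code) : Decidable (Pin c) := by unfold Pin; infer_instance

/-- The exchange of the first two factors. -/
def dT : CodeW := (Closed.eC, 1)

/-- The exchange of the first two factors times an involution of the third. -/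
def dU : CodeW := ((0, 0, 1), 1)

/-- An involution of the first factor. -/
def d1 : CodeW := ((1, 0, 0), 0)

/-- An involution of the second factor. -/
def d2 : CodeW := ((0, 1, 0), 0)

/-- An involution of the third factor. -/
def d3 : CodeW := ((0, 0, 1), 0)

/-- The cycle. -/
def dS : CodeW := (Closed.eC, 4)

theorem fpf_e3 : Fpf ((0, 0, 4), 0) := by decide +kernel

theorem pins : Pin (0, 0, 4) ∧ Pin (4, 0, 0) ∧ Pin (4, 4, 0) := by decide +kernel

theorem free_d : Free dU ∧ Free d1 ∧ Free d2 ∧ Free d3 := by decide +kernel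

theorem noCycle_d : NoCycle dT ∧ NoCycle dU ∧ NoCycle d1 ∧ NoCycle d3 := by decide +kernel

theorem d_comm : mulW dT ((0, 0, 4), 0) = mulW ((0, 0, 4), 0) dT ∧
    mulW dU ((4, 4, 0), 0) = mulW ((4, 4, 0), 0) dU ∧
    mulW d1 ((0, 0, 4), 0) = mulW ((0, 0, 4), 0) d1 ∧
    mulW d2 ((0, 0, 4), 0) = mulW ((0, 0, 4), 0) d2 ∧
    mulW d3 ((4, 0, 0), 0) = mulW ((4, 0, 0), 0) d3 := by decide +kernel

theorem d_sq : mulW dT dT = eW ∧ mulW dU dU = eW ∧ mulW d1 d1 = eW ∧ mulW d2 d2 = eW ∧ mulW d3 d3 = eW := by
  decide +kernel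

/-- The codes without exchanges. -/
def evens : List CodeW :=
  ((List.finRange 6).flatMap fun a => (List.finRange 6).flatMap fun b =>
    (List.finRange 6).flatMap fun c =>
      ([0, 4, 5] : List (Fin 6)).map fun p => (((a, b, c) : Code), p))

theorem mem_evens : ∀ w : CodeW, w.2 ∈ ([0, 4, 5] : List (Fin 6)) → w ∈ evens := by decide +kernel

/-- The even codes of order three. -/
def threes : List CodeW :=
  evens.filter fun w => decide (w ≠ eW ∧ mulW w (mulW w w) = eW)

theorem threes_spec : ∀ w ∈ threes, w ≠ eW ∧ mulW w (mulW w w) = eW ∧ w.2 ∈ ([0, 4, 5] : List (Fin 6)) := by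
  decide +kernel

theorem three_vec : ∀ v : V, ∃ w ∈ threes, appW w v = v := by decide +kernel

theorem three_inv : ∀ c : Code, c ≠ Closed.eC → Closed.mulC c c = Closed.eC →
    ∃ w ∈ threes, mulW w (c, 0) = mulW (c, 0) w := by decide +kernel

theorem free_inv : ∀ c : Code, c ≠ Closed.eC → Closed.mulC c c = Closed.eC → Free (c, 0) := by decide +kernel

theorem perm_inv : ∀ w : CodeW, mulW w w = eW → w.2 ≠ 4 ∧ w.2 ≠ 5 := by decide +kernel

/-- The parity of a permutation of the factors. -/
def sgn (p : Fin 6) : ZMod 2 := if p = 1 ∨ p = 2 ∨ p = 3 then 1 else 0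

theorem sgn_mul : ∀ p q, sgn (mulP p q) = sgn p + sgn q := by decide +kernel

/-- The rotation part of a permutation of the factors. -/
def rot (p : Fin 6) : ZMod 3 := if p = 4 then 1 else if p = 5 then 2 else 0

theorem rot_mul : ∀ p q, sgn p = 0 → sgn q = 0 → rot (mulP p q) = rot p + rot q := by decide +kernel

theorem perm_zero : ∀ p, sgn p = 0 → rot p = 0 → p = 0 := by decide +kernel

theorem perm_pow : ∀ p : Fin 6, p ≠ 4 → p ≠ 5 → mulP p (mulP p p) = p := by decide +kernel

theorem base_six : ∀ c : Code,
    Closed.mulC (Closed.mulC c c) (Closed.mulC (Closed.mulC c c) (Closed.mulC c c)) = Closed.eC := by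
  decide +kernel

theorem base_sq_inv : ∀ c : Code,
    Closed.mulC (Closed.mulC (1, 1, 1) (Closed.mulC (Closed.mulC c c) (1, 1, 1))) (Closed.mulC c c) =
      Closed.eC := by decide +kernel

theorem mulW_base : ∀ c d : Code, mulW (c, 0) (d, 0) = (Closed.mulC c d, 0) := by decide +kernel

/-- The commutators with an element of order three of the first factor fill the space. -/
theorem comm_onto : ∀ v : V, v ∈ (List.finRange 256).map fun b => appW ((4, 0, 0), 0) b ^^^ b := by
  decide +kernel

/-- A factor of a code. -/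
def axis (i : Fin 3) (s : Fin 6) : Code :=
  if i = 0 then (s, 0, 0) else if i = 1 then (0, s, 0) else (0, 0, s)

theorem axis_cube : ∀ i, ∀ s ∈ ([0, 4, 5] : List (Fin 6)),
    Closed.mulC (axis i s) (Closed.mulC (axis i s) (axis i s)) = Closed.eC := by decide +kernel

theorem axis_conj : ∀ i, ∀ s ∈ ([2, 3] : List (Fin 6)), ∃ t ∈ ([4, 5] : List (Fin 6)),
    Closed.mulC (axis i t) (axis i 1) = Closed.mulC (axis i s) (axis i t) := by decide +kernel

theorem axis_cycle : mulW dS d1 = mulW d2 dS ∧ mulW dS d2 = mulW d3 dS := by decide +kernel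

theorem axis_one : axis 0 1 = d1.1 ∧ axis 1 1 = d2.1 ∧ axis 2 1 = d3.1 := by decide +kernel

/-- An element of order nine over the cycle. -/
def dY : CodeW := ((4, 0, 0), 4)

theorem dY_spec : rot dY.2 = 1 ∧ sgn dY.2 = 0 ∧ mulW dY (mulW dY dY) = ((4, 4, 4), 0) ∧
    Closed.mulC (4, 4, 4) (Closed.mulC (4, 4, 4) (4, 4, 4)) = Closed.eC ∧
    ((4, 4, 4) : Code) ≠ Closed.eC := by decide +kernel

end Cfsg.Agent.O8Three.Wreath
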