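import Cfsg.Agent.Lib.O8Three.Wreath.Hyp
import Cfsg.Agent.Lib.O8Three.Wreath.Cert
import Cfsg.Agent.Lib.O8Three.Closed.Fusion

/-!
S3372: codes of the elements of `M`, lifts, and elements of order three commuting with involutions.
-/

set_option autoImplicit false
set_option linter.style.haveILetI false

namespace Cfsg.Agent.O8Three.Wreath

open Subgroup
open Cfsg.Agent.O8Three.Closed (V Code key)

universe u

theorem key_ext {g h : V → V} (e : ∀ v, g v = h v) : key g = key h := congrArg key (funext e)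

theorem invW_unique {a b : CodeW} (h : mulW (invW b) a = eW) : a = b := by
  have key : ∀ s t : Fin 6, Closed.mulS (invS s) t = 0 → t = s := by decide +kernel
  have keyp : ∀ p q : Fin 6, mulP (invS p) q = 0 → q = p := by decide +kernel
  obtain ⟨⟨a0, a1, a2⟩, q⟩ := a
  obtain ⟨⟨b0, b1, b2⟩, p⟩ := b
  obtain ⟨h1, h2⟩ := Prod.mk.injEq _ _ _ _ ▸ h
  obtain rfl := keyp p q h2
  fin_cases q <;>
    simp only [invW, invC, shiftC, invS, Closed.mulC, Closed.eC, List.getD_cons_succ, List.getD_cons_zero,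
      Prod.mk.injEq] at h1 <;>
    obtain ⟨e0, e1, e2⟩ := h1 <;>
    simp only [Prod.mk.injEq] <;>
    refine ⟨⟨?_, ?_, ?_⟩, trivial⟩ <;>
    first | exact key _ _ e0 | exact key _ _ e1 | exact key _ _ e2

theorem appW_inj {a b : CodeW} (e : ∀ v, appW a v = appW b v) : a = b :=
  invW_unique (key_one _ (key_ext fun v => by rw [app_mul, e, ← app_mul, (mulW_inv b).1, appW_eW]; rfl))

namespace Hyp

variable {X : Type u} [Group X] (P : Hyp X)

/-- The element `m` induces the map of the code `w`. -/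
def Acts (m : X) (w : CodeW) : Prop := ∀ v, m * P.f v * m⁻¹ = P.f (appW w v)

theorem f_self (v : V) : P.f v * P.f v = 1 := by
  have h : P.f 0 = 1 := by
    have h0 := P.f_xor 0 0
    exact mul_eq_left.1 (h0.symm.trans (congrArg P.f (by decide)))
  rw [← P.f_xor, ← h]
  exact congrArg P.f (Fin.ext (by simp [Fin.xor_val_of_two_pow (w := 8)]))

theorem f_zero : P.f 0 = 1 := by
  rw [← P.f_self 0, ← P.f_xor]; exact congrArg P.f (by decide)

theorem f_inv (v : V) : (P.f v)⁻¹ = P.f v := inv_eq_of_mul_eq_one_right (P.f_self v)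

theorem f_comm (a b : V) : P.f a * P.f b = P.f b * P.f a := by
  rw [← P.f_xor, ← P.f_xor]
  exact congrArg P.f (Fin.ext (by simp [Fin.xor_val_of_two_pow (w := 8), Nat.xor_comm]))

theorem acts_one : P.Acts 1 eW := fun v => by rw [appW_eW, one_mul, inv_one, mul_one]

theorem acts_f (a : V) : P.Acts (P.f a) eW := fun v => by
  rw [appW_eW, P.f_comm a v, mul_inv_cancel_right]

theorem acts_comp {m n : X} {a b : CodeW} (ha : P.Acts m a) (hb : P.Acts n b) :
    P.Acts (m * n) (mulW a b) := fun v => by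
  rw [app_mul, ← ha, ← hb]; group

theorem acts_unique {m : X} {a b : CodeW} (h : P.Acts m a) (h' : P.Acts m b) : a = b :=
  appW_inj fun v => P.f_inj ((h v).symm.trans (h' v))

theorem acts_eq {m : X} {w : CodeW} (h : P.Acts m w) (v : V) : m * P.f v = P.f (appW w v) * m := by
  rw [← h v, inv_mul_cancel_right]

theorem code_sq {m : X} {w : CodeW} (h : P.Acts m w) (h2 : m * m = 1) : mulW w w = eW :=
  P.acts_unique (P.acts_comp h h) (h2 ▸ P.acts_one)

theorem code_comm {m n : X} {a b : CodeW} (ha : P.Acts m a) (hb : P.Acts n b) (h : m * n = n * m) :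
    mulW a b = mulW b a :=
  P.acts_unique (P.acts_comp ha hb) (h ▸ P.acts_comp hb ha)

theorem code_conj {m y z : X} {d a b : CodeW} (hm : P.Acts m d) (hy : P.Acts y a) (hz : P.Acts z b)
    (h : m * y * m⁻¹ = z) : mulW d a = mulW b d :=
  P.acts_unique (P.acts_comp hm hy) ((show m * y = z * m by rw [← h, inv_mul_cancel_right]) ▸ P.acts_comp hz hm)

theorem eW_of_acts {m : X} (hm : m ∈ P.M) (h : P.Acts m eW) : ∃ v, P.f v = m :=
  P.cen m hm fun v => by
    have e := P.acts_eq h v
    rwa [appW_eW] at e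

theorem sq_of_eW {m : X} (hm : m ∈ P.M) (h : P.Acts m eW) : m * m = 1 := by
  obtain ⟨v, rfl⟩ := P.eW_of_acts hm h
  exact P.f_self v

theorem fixed_of_comm {m : X} {w : CodeW} (h : P.Acts m w) {v : V} (e : m * P.f v = P.f v * m) :
    appW w v = v := P.f_inj (by rw [← h, e, mul_inv_cancel_right])

theorem comm_of_fixed {m : X} {w : CodeW} (h : P.Acts m w) {v : V} (e : appW w v = v) :
    m * P.f v = P.f v * m := by rw [P.acts_eq h, e]

/-- Some element of `M` induces the code. -/
def In (w : CodeW) : Prop := ∃ m ∈ P.M, P.Acts m w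

variable {P}

theorem In.mul {a b : CodeW} (ha : P.In a) (hb : P.In b) : P.In (mulW a b) := by
  obtain ⟨m, hm, hma⟩ := ha
  obtain ⟨n, hn, hnb⟩ := hb
  exact ⟨m * n, mul_mem hm hn, P.acts_comp hma hnb⟩

variable (P)

theorem in_base (c : Code) : P.In (c, 0) := P.real c

theorem in_even (w : CodeW) (h : w.2 ∈ ([0, 4, 5] : List (Fin 6))) : P.In w := by
  have hS : P.In dS := P.cycle
  have e : ∀ c : Code, ∀ p, mulW (c, 0) (Closed.eC, p) = (c, p) := by decide +kernel
  have e5 : mulW dS dS = ((Closed.eC, 5) : CodeW) := by decide +kernel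
  obtain ⟨c, p⟩ := w
  rw [← e c p]
  refine In.mul (P.in_base c) ?_
  simp only [List.mem_cons, List.not_mem_nil, or_false] at h
  rcases h with rfl | rfl | rfl
  · exact P.in_base _
  · exact hS
  · exact e5 ▸ In.mul hS hS

/-- An element of `M` inducing no permutation of the factors has order dividing twelve. -/
theorem pow_twelve {m : X} (hm : m ∈ P.M) {c : Code} (h : P.Acts m (c, 0)) : m ^ 12 = 1 := by
  have h2 := P.acts_comp h h
  have h6 := P.acts_comp h2 (P.acts_comp h2 h2)
  rw [mulW_base, mulW_base, mulW_base, base_six] at h6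
  have e := P.sq_of_eW (mul_mem (mul_mem hm hm) (mul_mem (mul_mem hm hm) (mul_mem hm hm))) h6
  rw [← e, show 12 = (2 + (2 + 2)) + (2 + (2 + 2)) from rfl]
  simp only [pow_add, pow_two]

/-- A code of order three lifts to an element of order three. -/
theorem exists_three {w : CodeW} (hw : P.In w) (hne : w ≠ eW) (h3 : mulW w (mulW w w) = eW) :
    ∃ x ∈ P.M, P.Acts x w ∧ x ^ 3 = 1 ∧ x ≠ 1 := by
  obtain ⟨m, hm, ha⟩ := hw
  have h3' : P.Acts (m * (m * m)) eW := h3 ▸ P.acts_comp ha (P.acts_comp ha ha)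
  have hsq := P.sq_of_eW (mul_mem hm (mul_mem hm hm)) h3'
  have hx : P.Acts (m * (m * (m * m))) w := by
    have := P.acts_comp ha h3'
    rwa [(mulW_eW w).1] at this
  refine ⟨m * (m * (m * m)), mul_mem hm (mul_mem hm (mul_mem hm hm)), hx, ?_, fun e => hne ?_⟩
  · calc (m * (m * (m * m))) ^ 3 = (m * (m * m) * (m * (m * m))) * (m * (m * m) * (m * (m * m))) := by
          rw [pow_three]; group
      _ = 1 := by rw [hsq, one_mul]
  · exact P.acts_unique (e ▸ hx) P.acts_one

/-- Elements of order three with the same code without fixed vectors are conjugate by the vectors. -/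
theorem adjust_fpf {m x y : X} {e : CodeW} (hm : m ∈ P.M) (hxM : x ∈ P.M) (hyM : y ∈ P.M)
    (hx : P.Acts x e) (hy : P.Acts y e) (he : Fpf e) (hxy : m * x * m⁻¹ = y) :
    ∃ a, P.f a * m * x * (P.f a * m)⁻¹ = x := by
  obtain ⟨m', hm', hme⟩ : ∃ q ∈ P.M, q * x = y := ⟨y * x⁻¹, mul_mem hyM (inv_mem hxM), inv_mul_cancel_right y x⟩
  have hq : P.Acts m' eW := by
    obtain ⟨i, hi⟩ := P.act m' hm'
    have := P.acts_unique (P.acts_comp hi hx) (hme ▸ hy)
    have h0 : i = eW := appW_inj fun v => by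
      have hv : ∃ u, appW e u = v := (Finite.injective_iff_surjective.1 (fun a b h => P.f_inj (by
        have := congrArg P.f h
        rw [← hx a, ← hx b] at this
        exact mul_left_cancel (mul_right_cancel this)))) v
      obtain ⟨u, rfl⟩ := hv
      rw [← app_mul, this, appW_eW]
    exact h0 ▸ hi
  obtain ⟨q, rfl⟩ := P.eW_of_acts hm' hq
  have hinj : Function.Injective fun a : V => a ^^^ appW e a := fun a b h => by
    have lin : appW e (a ^^^ b) = appW e a ^^^ appW e b := P.f_inj (by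
      rw [P.f_xor, ← hx, ← hx, ← hx, P.f_xor]; group)
    have h0 : a ^^^ b = 0 := by
      refine he _ (P.f_inj ?_)
      have h' := congrArg P.f h
      simp only [P.f_xor] at h'
      rw [lin, P.f_xor, P.f_xor]
      calc P.f (appW e a) * P.f (appW e b)
          = (P.f a * P.f a) * P.f (appW e a) * P.f (appW e b) := by rw [P.f_self, one_mul]
        _ = P.f a * (P.f a * P.f (appW e a)) * P.f (appW e b) := by group
        _ = P.f a * P.f b * (P.f (appW e b) * P.f (appW e b)) := by rw [h']; group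
        _ = P.f a * P.f b := by rw [P.f_self, mul_one]
    exact Closed.Hyp.xor_eq_zero.1 h0
  obtain ⟨a, ha⟩ := (Finite.injective_iff_surjective.1 hinj) q
  refine ⟨a, ?_⟩
  simp only at ha
  calc P.f a * m * x * (P.f a * m)⁻¹ = P.f a * (m * x * m⁻¹) * P.f a := by
        rw [mul_inv_rev, P.f_inv]; group
    _ = P.f a * (P.f q * x) * P.f a := by rw [hxy, hme]
    _ = P.f a * P.f q * (x * P.f a) := by group
    _ = P.f a * P.f q * P.f (appW e a) * x := by rw [P.acts_eq hx]; group
    _ = x := by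
      rw [← ha, P.f_xor a (appW e a), ← mul_assoc (P.f a) (P.f a), P.f_self, one_mul, P.f_self, one_mul]

/-- An involutive code commuting with a code of order three without fixed vectors lifts. -/
theorem lift_fpf {d e : CodeW} (hd : P.In d) (hdd : mulW d d = eW) {x : X} (hxM : x ∈ P.M) (hx : P.Acts x e)
    (he : Fpf e) (hde : mulW d e = mulW e d) :
    ∃ u ∈ P.M, P.Acts u d ∧ u * u = 1 ∧ u * x = x * u := by
  obtain ⟨m, hm, hma⟩ := hd
  have hy : P.Acts (m * x * m⁻¹) e := by
    intro v
    have h1 := P.acts_comp hma hx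
    rw [hde] at h1
    obtain ⟨u, hu⟩ : ∃ u, appW d u = v := ⟨appW d v, by rw [← app_mul, hdd, appW_eW]⟩
    have h2 := h1 u
    rw [app_mul, hu] at h2
    calc m * x * m⁻¹ * P.f v * (m * x * m⁻¹)⁻¹
        = m * x * (m⁻¹ * P.f v * m) * (m * x)⁻¹ := by group
      _ = m * x * P.f u * (m * x)⁻¹ := by rw [← hu, ← hma u]; group
      _ = P.f (appW e v) := h2
  obtain ⟨a, ha⟩ := P.adjust_fpf hm hxM (mul_mem (mul_mem hm hxM) (inv_mem hm)) hx hy he rfl
  set u := P.f a * m with hu
  have hua : P.Acts u d := by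
    have := P.acts_comp (P.acts_f a) hma
    rwa [(mulW_eW d).2] at this
  have huM : u ∈ P.M := mul_mem (P.f_mem a) hm
  have hux : u * x = x * u := mul_inv_eq_iff_eq_mul.1 ha
  refine ⟨u, huM, hua, ?_, hux⟩
  obtain ⟨v, hv⟩ := P.eW_of_acts (mul_mem huM huM) (hdd ▸ P.acts_comp hua hua)
  have hfix : appW e v = v := P.fixed_of_comm hx (by
    rw [hv]; exact ((show Commute x u from hux.symm).mul_right hux.symm).eq)
  rw [← hv, he v hfix, P.f_zero]

/-- A free involutive code has an involution over it. -/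
theorem lift_free {d : CodeW} (hd : P.In d) (hdd : mulW d d = eW) (hf : Free d) :
    ∃ u ∈ P.M, P.Acts u d ∧ u * u = 1 := by
  obtain ⟨m, hm, hma⟩ := hd
  obtain ⟨q, hq⟩ := P.eW_of_acts (mul_mem hm hm) (hdd ▸ P.acts_comp hma hma)
  have hfix : appW d q = q := P.fixed_of_comm hma (by rw [hq, mul_assoc])
  obtain ⟨b, -, hb⟩ := List.mem_map.1 (hf q hfix)
  refine ⟨P.f b * m, mul_mem (P.f_mem b) hm, ?_, ?_⟩
  · have := P.acts_comp (P.acts_f b) hma
    rwa [(mulW_eW d).2] at this
  calc P.f b * m * (P.f b * m) = P.f b * (m * P.f b) * m := by group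
    _ = P.f b * P.f (appW d b) * (m * m) := by rw [P.acts_eq hma]; group
    _ = P.f b * P.f (appW d b) * (P.f (appW d b) * P.f b) := by rw [← hq, ← hb, P.f_xor]
    _ = P.f b * (P.f (appW d b) * P.f (appW d b)) * P.f b := by group
    _ = 1 := by rw [P.f_self, mul_one, P.f_self]

/-- A free involution commutes with some element of order three over each commuting code of order three. -/
theorem three_free {u : X} (huM : u ∈ P.M) {d w : CodeW} (hu : P.Acts u d) (huu : u * u = 1) (hf : Free d)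
    (hw : P.In w) (hwne : w ≠ eW) (hw3 : mulW w (mulW w w) = eW) (hdw : mulW w d = mulW d w) :
    ∃ y ∈ P.M, P.Acts y w ∧ y ^ 3 = 1 ∧ y ≠ 1 ∧ y * u = u * y := by
  obtain ⟨m, hm, hma⟩ := hw
  have hui : u⁻¹ = u := inv_eq_of_mul_eq_one_right huu
  have h1 : P.Acts (u * (m * u * m⁻¹)) eW := by
    intro v
    rw [appW_eW]
    obtain ⟨v1, rfl⟩ : ∃ v1, appW w v1 = v := ⟨appW (mulW w w) v, by rw [← app_mul, hw3, appW_eW]⟩
    calc u * (m * u * m⁻¹) * P.f (appW w v1) * (u * (m * u * m⁻¹))⁻¹
        = u * (m * (u * (m⁻¹ * P.f (appW w v1) * m) * u⁻¹) * m⁻¹) * u⁻¹ := by group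
      _ = u * (m * (u * P.f v1 * u⁻¹) * m⁻¹) * u⁻¹ := by
          rw [show m⁻¹ * P.f (appW w v1) * m = P.f v1 by rw [← hma v1]; group]
      _ = u * P.f (appW w (appW d v1)) * u⁻¹ := by rw [hu, hma]
      _ = P.f (appW w v1) := by
          rw [← app_mul, hdw, app_mul, hu, ← app_mul, P.code_sq hu huu, appW_eW]
  obtain ⟨q, hq⟩ := P.eW_of_acts (mul_mem huM (mul_mem (mul_mem hm huM) (inv_mem hm))) h1
  have hmu : m * u * m⁻¹ = u * P.f q := by rw [hq, ← mul_assoc, huu, one_mul]
  have hfix : appW d q = q := P.fixed_of_comm hu (by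
    have h2 : u * P.f q * (u * P.f q) = 1 := by
      rw [← hmu]
      calc m * u * m⁻¹ * (m * u * m⁻¹) = m * (u * u) * m⁻¹ := by group
        _ = 1 := by rw [huu]; group
    calc u * P.f q = (u * P.f q * (u * P.f q)) * (P.f q)⁻¹ * u⁻¹ := by group
      _ = P.f q * u := by rw [h2, P.f_inv, hui, one_mul])
  obtain ⟨b, -, hb⟩ := List.mem_map.1 (hf q hfix)
  set n := P.f b * m with hn
  have hna : P.Acts n w := by
    have := P.acts_comp (P.acts_f b) hma
    rwa [(mulW_eW w).2] at this
  have hnM : n ∈ P.M := mul_mem (P.f_mem b) hm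
  have hnu : n * u = u * n := by
    calc n * u = P.f b * (m * u * m⁻¹) * m := by rw [hn]; group
      _ = P.f b * u * P.f q * m := by rw [hmu]; group
      _ = u * (u⁻¹ * P.f b * u) * P.f q * m := by group
      _ = u * n := by
          have e : u⁻¹ * P.f b * u = P.f (appW d b) := by
            have := hu b
            rw [hui] at this ⊢
            exact this
          rw [e, ← hb, hn]
          calc u * P.f (appW d b) * P.f (appW d b ^^^ b) * m
              = u * (P.f (appW d b) * P.f (appW d b)) * P.f b * m := by rw [P.f_xor]; group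
            _ = u * (P.f b * m) := by rw [P.f_self, mul_one, mul_assoc]
  have h3' : P.Acts (n * (n * n)) eW := hw3 ▸ P.acts_comp hna (P.acts_comp hna hna)
  have hsq := P.sq_of_eW (mul_mem hnM (mul_mem hnM hnM)) h3'
  have hy : P.Acts (n * (n * (n * n))) w := by
    have := P.acts_comp hna h3'
    rwa [(mulW_eW w).1] at this
  refine ⟨n * (n * (n * n)), mul_mem hnM (mul_mem hnM (mul_mem hnM hnM)), hy, ?_, fun e => hwne ?_, ?_⟩
  · calc (n * (n * (n * n))) ^ 3 = (n * (n * n) * (n * (n * n))) * (n * (n * n) * (n * (n * n))) := by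
          rw [pow_three]; group
      _ = 1 := by rw [hsq, one_mul]
  · exact P.acts_unique (e ▸ hy) P.acts_one
  · have c : Commute n u := hnu
    exact (c.mul_left (c.mul_left (c.mul_left c))).eq

/-- An involution of `M` exchanging no factors commutes with an element of order three of `M`. -/
theorem three_even {s : X} (hs : s ∈ P.M) (hss : s * s = 1) {c : Code} (hc : P.Acts s (c, 0)) :
    ∃ y ∈ P.M, y ^ 3 = 1 ∧ y ≠ 1 ∧ y * s = s * y := by
  have hcc : Closed.mulC c c = Closed.eC := by
    have := P.code_sq hc hss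
    rw [mulW_base] at this
    exact congrArg Prod.fst this
  by_cases hce : c = Closed.eC
  · subst hce
    obtain ⟨v, rfl⟩ := P.eW_of_acts hs hc
    obtain ⟨w, hw, hwv⟩ := three_vec v
    obtain ⟨hw1, hw3, hw2⟩ := threes_spec w hw
    obtain ⟨x, hxM, hx, hx3, hx1⟩ := P.exists_three (P.in_even w hw2) hw1 hw3
    exact ⟨x, hxM, hx3, hx1, P.comm_of_fixed hx hwv⟩
  obtain ⟨w, hw, hwd⟩ := three_inv c hce hcc
  obtain ⟨hw1, hw3, hw2⟩ := threes_spec w hw
  obtain ⟨y, hyM, -, hy3, hy1, hys⟩ :=
    P.three_free hs hc hss (free_inv c hce hcc) (P.in_even w hw2) hw1 hw3 hwd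
  exact ⟨y, hyM, hy3, hy1, hys⟩

end Hyp

end Cfsg.Agent.O8Three.Wreath
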