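import Cfsg.Agent.Lib.O8Three.Closed.Cert

/-!
S3372: the maps of the product of three planes with the permutations of the three factors: the wreath product
of two symmetric groups of degree three.
-/

set_option autoImplicit false
set_option maxRecDepth 100000
set_option maxHeartbeats 4000000

namespace Cfsg.Agent.O8Three.Wreath

open Cfsg.Agent.O8Three.Closed (V Code fz)

/-- Three maps of the plane and one of the six permutations of the factors: `0` is trivial, `1, 2, 3` exchange
two factors, `4, 5` are the two cycles. -/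
abbrev CodeW : Type := Code × Fin 6

/-- The permutations of the factors, on the bits of a vector. -/
def permN (p : Fin 6) (v : ℕ) : ℕ :=
  match p.val with
  | 0 => v
  | 1 => (v &&& 153) ||| ((v &&& 34) <<< 1) ||| ((v &&& 68) >>> 1)
  | 2 => (v &&& 195) ||| ((v &&& 12) <<< 2) ||| ((v &&& 48) >>> 2)
  | 3 => (v &&& 165) ||| ((v &&& 10) <<< 3) ||| ((v &&& 80) >>> 3)
  | 4 => (v &&& 129) ||| ((v &&& 2) <<< 1) ||| ((v &&& 64) >>> 1) ||| ((v &&& 4) <<< 2) ||| ((v &&& 32) >>> 2) ||| ((v &&& 8) <<< 3) ||| ((v &&& 16) >>> 3)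
  | _ => (v &&& 129) ||| ((v &&& 4) >>> 1) ||| ((v &&& 32) <<< 1) ||| ((v &&& 8) <<< 2) ||| ((v &&& 16) >>> 2) ||| ((v &&& 2) <<< 3) ||| ((v &&& 64) >>> 3)

/-- The product of two permutations. -/
def mulP (a b : Fin 6) : Fin 6 :=
  (([[0, 1, 2, 3, 4, 5], [1, 0, 4, 5, 2, 3], [2, 5, 0, 4, 3, 1], [3, 4, 5, 0, 1, 2], [4, 3, 1, 2, 5, 0], [5, 2, 3, 1, 0, 4]] : List (List (Fin 6))).getD a.val []).getD b.val 0

/-- A code moved by a permutation of the factors. -/
def shiftC (p : Fin 6) (d : Code) : Code :=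
  match p.val with
  | 0 => (d.1, d.2.1, d.2.2)
  | 1 => (d.2.1, d.1, d.2.2)
  | 2 => (d.1, d.2.2, d.2.1)
  | 3 => (d.2.2, d.2.1, d.1)
  | 4 => (d.2.2, d.1, d.2.1)
  | _ => (d.2.1, d.2.2, d.1)

/-- The product of two codes. -/
def mulW (a b : CodeW) : CodeW := (Closed.mulC a.1 (shiftC a.2 b.1), mulP a.2 b.2)

/-- The neutral code. -/
def eW : CodeW := (Closed.eC, 0)

/-- The map with a given code. -/
def appW (w : CodeW) (v : V) : V := Closed.app w.1 (fz (permN w.2) v)

theorem perm_lt : ∀ v : V, ∀ p, permN p v.val < 256 := by decide +kernel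

theorem perm_mul : ∀ v : V, ∀ p q, fz (permN p) (fz (permN q) v) = fz (permN (mulP p q)) v := by
  decide +kernel

theorem perm_fac0 : ∀ v : V, ∀ p s, fz (permN p) (Closed.app (s, 0, 0) v) =
    Closed.app (shiftC p (s, 0, 0)) (fz (permN p) v) := by decide +kernel

theorem perm_fac1 : ∀ v : V, ∀ p s, fz (permN p) (Closed.app (0, s, 0) v) =
    Closed.app (shiftC p (0, s, 0)) (fz (permN p) v) := by decide +kernel

theorem perm_fac2 : ∀ v : V, ∀ p s, fz (permN p) (Closed.app (0, 0, s) v) =
    Closed.app (shiftC p (0, 0, s)) (fz (permN p) v) := by decide +kernel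

theorem split_mul : ∀ c : Code,
    Closed.mulC (c.1, 0, 0) (Closed.mulC (0, c.2.1, 0) (0, 0, c.2.2)) = c := by decide +kernel

theorem split_shift : ∀ p c, Closed.mulC (shiftC p (c.1, 0, 0))
    (Closed.mulC (shiftC p (0, c.2.1, 0)) (shiftC p (0, 0, c.2.2))) = shiftC p c := by decide +kernel

theorem perm_app (p : Fin 6) (c : Code) (v : V) :
    fz (permN p) (Closed.app c v) = Closed.app (shiftC p c) (fz (permN p) v) := by
  rw [← split_mul c, Closed.app_mul, Closed.app_mul, perm_fac0, perm_fac1, perm_fac2, split_mul,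
    ← split_shift p c, Closed.app_mul, Closed.app_mul]

/-- **The maps compose as the codes multiply.** -/
theorem app_mul (a b : CodeW) (v : V) : appW (mulW a b) v = appW a (appW b v) := by
  unfold appW mulW
  rw [Closed.app_mul, perm_app, perm_mul]

end Cfsg.Agent.O8Three.Wreath
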