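import Cfsg.Agent.Lib.O8Three.Wreath.Basic

/-!
S3372: fusion of involutions through elements of order three of the base group, and the centraliser of the vectors.
-/

set_option autoImplicit false
set_option linter.style.haveILetI false

namespace Cfsg.Agent.O8Three.Wreath

open Subgroup
open Cfsg.Agent.O8Three.Closed (V Code key)

universe u

namespace Hyp

variable {X : Type u} [Group X] (P : Hyp X)

/-- A 3-element of `M` commuting with codes which do not cycle the factors induces no permutation. -/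
theorem perm_zero_of_three {g : X} {w : CodeW} (hg : P.Acts g w) (h4 : w.2 ≠ 4) (h5 : w.2 ≠ 5) {k : ℕ}
    (hk : g ^ 3 ^ k = 1) : w.2 = 0 := by
  have key : ∀ j, ∃ w' : CodeW, P.Acts (g ^ 3 ^ j) w' ∧ w'.2 = w.2 := by
    intro j
    induction j with
    | zero => exact ⟨w, by simpa using hg, rfl⟩
    | succ j ih =>
      obtain ⟨w', hw', e⟩ := ih
      refine ⟨mulW w' (mulW w' w'), ?_, ?_⟩
      · rw [pow_succ, pow_mul, pow_three]
        exact P.acts_comp hw' (P.acts_comp hw' hw')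
      · show mulP w'.2 (mulP w'.2 w'.2) = w.2
        rw [perm_pow w'.2 (e ▸ h4) (e ▸ h5), e]
  obtain ⟨w', hw', e⟩ := key k
  rw [hk] at hw'
  rw [← e, P.acts_unique hw' P.acts_one]
  rfl

variable [Finite X]

/-- A 3-subgroup containing a pinned element of order three lies in `M`. -/
theorem three_group_le {R : Subgroup X} (hR : IsPGroup 3 R) {x : X} {c : Code} (hxM : x ∈ P.M)
    (hx : P.Acts x (c, 0)) (hc : NoCycle (c, 0)) (hx3 : x ^ 3 = 1) (hx1 : x ≠ 1) (hxR : x ∈ R) : R ≤ P.M := by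
  haveI : Fact (Nat.Prime 3) := ⟨Nat.prime_three⟩
  haveI : Nontrivial R := ⟨⟨x, hxR⟩, 1, fun e => hx1 (congrArg Subtype.val e)⟩
  haveI := hR.center_nontrivial
  obtain ⟨z, hz⟩ := exists_ne (1 : center R)
  obtain ⟨k, hk⟩ := (hR.to_subgroup (center _)) z
  obtain ⟨k', hk', hk1⟩ : ∃ k', orderOf z = 3 ^ k' ∧ 1 ≤ k' := by
    obtain ⟨k', -, e⟩ := (Nat.dvd_prime_pow Nat.prime_three).1 (orderOf_dvd_of_pow_eq_one hk)
    refine ⟨k', e, Nat.one_le_iff_ne_zero.2 fun h0 => hz ?_⟩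
    rw [h0, pow_zero] at e
    exact orderOf_eq_one_iff.1 e
  set w := z ^ 3 ^ (k' - 1) with hw
  have hw3 : w ^ 3 = 1 := by rw [hw, ← pow_mul, ← pow_succ, Nat.sub_add_cancel hk1, ← hk', pow_orderOf_eq_one]
  have hw1 : w ≠ 1 := fun e => by
    have := Nat.le_of_dvd (pow_pos (by norm_num) _) (hk' ▸ orderOf_dvd_of_pow_eq_one e :
      3 ^ k' ∣ 3 ^ (k' - 1))
    have := (Nat.pow_lt_pow_iff_right (by norm_num : 1 < 3)).2 (show k' - 1 < k' by omega)
    omega
  set t : X := ((w : R) : X) with ht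
  have htc : ∀ g ∈ R, g * t = t * g := fun g hg =>
    congrArg (fun q : R => (q : X)) (mem_center_iff.1 w.2 ⟨g, hg⟩)
  have htM : t ∈ P.M := P.strong x hxM c hx hx3 hx1 t (by
    rw [← htc x hxR, mul_inv_cancel_right]; exact hxM)
  have ht3 : t ^ 3 = 1 := congrArg (fun q : center R => ((q : R) : X)) hw3
  have ht1 : t ≠ 1 := fun e => hw1 (Subtype.ext (Subtype.ext e))
  obtain ⟨v, hv⟩ := P.act t htM
  obtain ⟨h4, h5⟩ := hc v (P.code_comm hv hx (htc x hxR).symm)
  have hv0 := P.perm_zero_of_three hv h4 h5 (k := 1) (by rw [pow_one]; exact ht3)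
  obtain ⟨vc, vp⟩ := v
  simp only at hv0
  subst hv0
  intro g hg
  exact P.strong t htM vc hv ht3 ht1 g (by rw [htc g hg, mul_inv_cancel_right]; exact htM)

/-- **Fusion of an involution whose centraliser in `M` has only base elements of order three.** -/
theorem ctl {u : X} (huM : u ∈ P.M) {d : CodeW} (hd : P.Acts u d) (hnc : NoCycle d) {x : X} {c : Code}
    (hxM : x ∈ P.M) (hx : P.Acts x (c, 0)) (hc : NoCycle (c, 0)) (hx3 : x ^ 3 = 1) (hx1 : x ≠ 1)
    (hxu : x * u = u * x) {g : X} {y : X} (hyM : y ∈ P.M) (hy3 : y ^ 3 = 1) (hy1 : y ≠ 1)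
    (hys : y * (g * u * g⁻¹) = g * u * g⁻¹ * y) :
    ∃ m ∈ P.M, m * u * m⁻¹ = g * u * g⁻¹ := by
  haveI : Fact (Nat.Prime 3) := ⟨Nat.prime_three⟩
  set Y : Subgroup X := centralizer ({u} : Set X) with hY
  have isp : ∀ z : Y, z ^ 3 = 1 → IsPGroup 3 (zpowers z) := fun z hz => by
    obtain ⟨i, -, hi⟩ := (Nat.dvd_prime_pow Nat.prime_three).1 (orderOf_dvd_of_pow_eq_one
      (show z ^ 3 ^ 1 = 1 by rw [pow_one]; exact hz))
    exact IsPGroup.of_card (n := i) (by rw [Nat.card_zpowers, hi])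
  set xY : Y := ⟨x, mem_centralizer_singleton_iff.2 hxu⟩ with hxY
  obtain ⟨R, hR⟩ := (isp xY (Subtype.ext hx3)).exists_le_sylow
  have hRM : (R : Subgroup Y).map Y.subtype ≤ P.M :=
    P.three_group_le (R.isPGroup'.map Y.subtype) hxM hx hc hx3 hx1 ⟨xY, hR (mem_zpowers _), rfl⟩
  set y' : Y := ⟨g⁻¹ * y * g, mem_centralizer_singleton_iff.2 (by
    calc g⁻¹ * y * g * u = g⁻¹ * (y * (g * u * g⁻¹)) * g := by group
      _ = g⁻¹ * (g * u * g⁻¹ * y) * g := by rw [hys]
      _ = u * (g⁻¹ * y * g) := by group)⟩ with hy'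
  have hy'3 : y' ^ 3 = 1 := Subtype.ext (by
    show (g⁻¹ * y * g) ^ 3 = 1
    calc (g⁻¹ * y * g) ^ 3 = g⁻¹ * y ^ 3 * g := by rw [pow_three, pow_three]; group
      _ = 1 := by rw [hy3, mul_one, inv_mul_cancel])
  obtain ⟨S, hS⟩ := (isp y' hy'3).exists_le_sylow
  obtain ⟨k, hk⟩ := MulAction.exists_smul_eq Y S R
  have hmem : k * y' * k⁻¹ ∈ (R : Subgroup Y) := by
    rw [← hk, Sylow.coe_subgroup_smul]
    exact ⟨y', hS (mem_zpowers _), by simp⟩
  set t : X := (k : X) * (g⁻¹ * y * g) * (k : X)⁻¹ with ht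
  have htM : t ∈ P.M := hRM ⟨_, hmem, by simp [ht, hy']⟩
  have htY : t * u = u * t := mem_centralizer_singleton_iff.1 (k * y' * k⁻¹).2
  have ht3 : t ^ 3 = 1 := by
    calc t ^ 3 = (k : X) * (g⁻¹ * y ^ 3 * g) * (k : X)⁻¹ := by rw [ht, pow_three, pow_three]; group
      _ = 1 := by rw [hy3]; group
  have ht1 : t ≠ 1 := fun e => hy1 (by
    calc y = g * (k : X)⁻¹ * t * (k : X) * g⁻¹ := by rw [ht]; group
      _ = 1 := by rw [e]; group)
  obtain ⟨v, hv⟩ := P.act t htM
  obtain ⟨h4, h5⟩ := hnc v (P.code_comm hv hd htY)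
  have hv0 := P.perm_zero_of_three hv h4 h5 (k := 1) (by rw [pow_one]; exact ht3)
  obtain ⟨vc, vp⟩ := v
  simp only at hv0
  subst hv0
  have hm : g * (k : X)⁻¹ ∈ P.M := P.strong t htM vc hv ht3 ht1 _ (by
    rwa [show g * (k : X)⁻¹ * t * (g * (k : X)⁻¹)⁻¹ = y by rw [ht]; group])
  refine ⟨_, hm, ?_⟩
  have hku : (k : X)⁻¹ * u * (k : X) = u := by
    rw [mul_assoc, ← mem_centralizer_singleton_iff.1 k.2, inv_mul_cancel_left]
  calc g * (k : X)⁻¹ * u * (g * (k : X)⁻¹)⁻¹ = g * ((k : X)⁻¹ * u * (k : X)) * g⁻¹ := by group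
    _ = g * u * g⁻¹ := by rw [hku]

/-- **The centraliser of the vectors lies in `M`.** -/
theorem cent_le {g : X} (hg : ∀ v, g * P.f v = P.f v * g) : g ∈ P.M := by
  classical
  haveI : Fact (Nat.Prime 3) := ⟨Nat.prime_three⟩
  obtain ⟨x, hxM, hx, hx3, hx1⟩ := P.exists_three (P.in_base (0, 0, 4))
    (by decide +kernel) (by decide +kernel)
  set C : Subgroup X := centralizer (Set.range P.f) with hC
  set N : Subgroup X := normalizer (C : Set X) with hN
  have hnorm : ∀ m ∈ P.M, m ∈ N := fun m hm => by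
    have hsub : ∀ a ∈ P.M, ∀ h ∈ C, a * h * a⁻¹ ∈ C := fun a ha h hh => by
      refine mem_centralizer_iff.2 ?_
      rintro _ ⟨v, rfl⟩
      obtain ⟨w, hw⟩ := P.act a⁻¹ (inv_mem ha)
      have e : a⁻¹ * P.f v * a = P.f (appW w v) := by simpa using hw v
      have hc := mem_centralizer_iff.1 hh _ ⟨appW w v, rfl⟩
      rw [← e] at hc
      calc P.f v * (a * h * a⁻¹) = a * (a⁻¹ * P.f v * a * h) * a⁻¹ := by group
        _ = a * (h * (a⁻¹ * P.f v * a)) * a⁻¹ := by rw [hc]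
        _ = a * h * a⁻¹ * P.f v := by group
    refine mem_normalizer_iff.2 fun h => ⟨hsub m hm h, fun hh => ?_⟩
    have := hsub m⁻¹ (inv_mem hm) _ hh
    simpa [mul_assoc] using this
  have isp : IsPGroup 3 (zpowers (⟨x, hnorm x hxM⟩ : N)) := by
    obtain ⟨i, -, hi⟩ := (Nat.dvd_prime_pow Nat.prime_three).1 (orderOf_dvd_of_pow_eq_one
      (show (⟨x, hnorm x hxM⟩ : N) ^ 3 ^ 1 = 1 from Subtype.ext (by rw [pow_one]; exact hx3)))
    exact IsPGroup.of_card (n := i) (by rw [Nat.card_zpowers, hi])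
  obtain ⟨R, hR⟩ := isp.exists_le_sylow
  have hRM : (R : Subgroup N).map N.subtype ≤ P.M :=
    P.three_group_le (R.isPGroup'.map N.subtype) hxM hx pins.1.2.2 hx3 hx1 ⟨_, hR (mem_zpowers _), rfl⟩
  have h3 : ¬ 3 ∣ Nat.card C := by
    intro hdvd
    obtain ⟨q, hq⟩ := exists_prime_orderOf_dvd_card' (G := C) 3 hdvd
    set qN : N := ⟨(q : X), le_normalizer q.2⟩ with hqN
    have hq3 : qN ^ 3 = 1 := Subtype.ext (by
      have := congrArg Subtype.val (hq ▸ pow_orderOf_eq_one q : q ^ 3 = 1)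
      simpa [hqN] using this)
    have ispq : IsPGroup 3 (zpowers qN) := by
      obtain ⟨i, -, hi⟩ := (Nat.dvd_prime_pow Nat.prime_three).1 (orderOf_dvd_of_pow_eq_one
        (show qN ^ 3 ^ 1 = 1 by rw [pow_one]; exact hq3))
      exact IsPGroup.of_card (n := i) (by rw [Nat.card_zpowers, hi])
    obtain ⟨S, hS⟩ := ispq.exists_le_sylow
    obtain ⟨k, hk⟩ := MulAction.exists_smul_eq N S R
    have hmem : k * qN * k⁻¹ ∈ (R : Subgroup N) := by
      rw [← hk, Sylow.coe_subgroup_smul]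
      exact ⟨qN, hS (mem_zpowers _), by simp⟩
    set t : X := (k : X) * q * (k : X)⁻¹ with ht
    have htM : t ∈ P.M := hRM ⟨_, hmem, by simp [ht, hqN]⟩
    have htC : t ∈ C := (mem_normalizer_iff.1 k.2 _).1 q.2
    obtain ⟨v, hv⟩ := P.eW_of_acts htM (fun v => by
      rw [appW_eW, ← mem_centralizer_iff.1 htC _ ⟨v, rfl⟩, mul_inv_cancel_right])
    have ht2 : t * t = 1 := hv ▸ P.f_self v
    have ht3 : t ^ 3 = 1 := by
      have := congrArg Subtype.val (hq ▸ pow_orderOf_eq_one q : q ^ 3 = 1)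
      calc t ^ 3 = (k : X) * (q : X) ^ 3 * (k : X)⁻¹ := by rw [ht, pow_three, pow_three]; group
        _ = 1 := by rw [show (q : X) ^ 3 = 1 by simpa using this]; group
    rw [pow_three, ht2, mul_one] at ht3
    have hq1 : q = 1 := Subtype.ext (by
      calc (q : X) = (k : X)⁻¹ * t * k := by rw [ht]; group
        _ = 1 := by rw [ht3, mul_one, inv_mul_cancel])
    rw [hq1, orderOf_one] at hq
    omega
  -- a four dimensional acting group
  obtain ⟨y, hyM, hy, hy3, hy1, hyx⟩ : ∃ y ∈ P.M, P.Acts y ((4, 0, 0), 0) ∧ y ^ 3 = 1 ∧ y ≠ 1 ∧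
      y * x = x * y := by
    obtain ⟨m, hm, hma⟩ := P.in_base (4, 0, 0)
    have hyc : P.Acts (m * x * m⁻¹) ((0, 0, 4), 0) := by
      intro v
      obtain ⟨v0, rfl⟩ : ∃ v0, appW ((4, 0, 0), 0) v0 = v :=
        ⟨appW (mulW ((4, 0, 0), 0) ((4, 0, 0), 0)) v, by
          rw [← app_mul, show mulW ((4, 0, 0), 0) (mulW ((4, 0, 0), 0) ((4, 0, 0), 0)) = eW by decide +kernel,
            appW_eW]⟩
      calc m * x * m⁻¹ * P.f (appW ((4, 0, 0), 0) v0) * (m * x * m⁻¹)⁻¹
          = m * (x * (m⁻¹ * P.f (appW ((4, 0, 0), 0) v0) * m) * x⁻¹) * m⁻¹ := by group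
        _ = m * (x * P.f v0 * x⁻¹) * m⁻¹ := by
            rw [show m⁻¹ * P.f (appW ((4, 0, 0), 0) v0) * m = P.f v0 by rw [← hma v0]; group]
        _ = _ := by
            rw [hx, hma, ← app_mul, ← app_mul]
            exact congrArg (fun w => P.f (appW w v0)) (by decide +kernel)
    obtain ⟨a, ha⟩ := P.adjust_fpf hm hxM (mul_mem (mul_mem hm hxM) (inv_mem hm)) hx hyc fpf_e3 rfl
    set n := P.f a * m with hn
    have hna : P.Acts n ((4, 0, 0), 0) := by
      have := P.acts_comp (P.acts_f a) hma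
      rwa [(mulW_eW _).2] at this
    have hnM : n ∈ P.M := mul_mem (P.f_mem a) hm
    have hnx : n * x = x * n := mul_inv_eq_iff_eq_mul.1 ha
    have hn3 : P.Acts (n * (n * n)) eW := by
      have := P.acts_comp hna (P.acts_comp hna hna)
      rwa [show mulW ((4, 0, 0), 0) (mulW ((4, 0, 0), 0) ((4, 0, 0), 0)) = eW by decide +kernel] at this
    obtain ⟨q, hq⟩ := P.eW_of_acts (mul_mem hnM (mul_mem hnM hnM)) hn3
    have hq0 : q = 0 := fpf_e3 q (P.fixed_of_comm hx (by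
      have c : Commute x n := hnx.symm
      rw [hq]; exact (c.mul_right (c.mul_right c)).eq))
    refine ⟨n, hnM, hna, by rw [pow_three, ← hq, hq0, P.f_zero], fun e => ?_, hnx⟩
    exact absurd (P.acts_unique (e ▸ hna) P.acts_one) (by decide +kernel)
  let A : Subgroup X := closure {x, y}
  haveI hA : IsMulCommutative A := isMulCommutative_closure (by
    rintro a (rfl | rfl) b (rfl | rfl)
    · rfl
    · exact hyx.symm
    · exact hyx
    · rfl)
  have hcub : ∀ a ∈ A, a ^ 3 = 1 := by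
    intro a ha
    induction ha using closure_induction with
    | mem a ha => rcases ha with rfl | rfl <;> assumption
    | one => exact one_pow 3
    | mul a b ha hb h1 h2 =>
      have hc : Commute a b := congrArg Subtype.val (hA.is_comm.comm ⟨a, ha⟩ ⟨b, hb⟩)
      rw [hc.mul_pow, h1, h2, one_mul]
    | inv a _ h1 => rw [inv_pow, h1, inv_one]
  have hAp : IsPGroup 3 A := fun a => ⟨1, Subtype.ext (by simpa using hcub a a.2)⟩
  have hAM : A ≤ P.M := (closure_le _).2 (by rintro a (rfl | rfl) <;> assumption)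
  have hacts : ∀ a ∈ A, ∃ c : Code, P.Acts a (c, 0) := by
    intro a ha
    induction ha using closure_induction with
    | mem a ha => rcases ha with rfl | rfl <;> [exact ⟨_, hx⟩; exact ⟨_, hy⟩]
    | one => exact ⟨Closed.eC, P.acts_one⟩
    | mul a b _ _ h1 h2 =>
      obtain ⟨c1, h1⟩ := h1
      obtain ⟨c2, h2⟩ := h2
      exact ⟨Closed.mulC c1 c2, mulW_base c1 c2 ▸ P.acts_comp h1 h2⟩
    | inv a ha h1 =>
      obtain ⟨c1, h1⟩ := h1
      refine ⟨Closed.mulC c1 c1, ?_⟩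
      rw [inv_eq_of_mul_eq_one_left (show a ^ 2 * a = 1 by rw [← pow_succ, hcub a ha]), pow_two]
      exact mulW_base c1 c1 ▸ P.acts_comp h1 h1
  have hAc : ¬ IsCyclic A := fun h => by
    obtain ⟨⟨a, ha⟩, hgen⟩ := h.exists_generator
    obtain ⟨ca, hca⟩ := hacts a ha
    have span : ∀ z ∈ A, ∀ d : CodeW, P.Acts z d → d = eW ∨ d = (ca, 0) ∨ d = mulW (ca, 0) (ca, 0) := by
      intro z hz d hd
      obtain ⟨i, hi⟩ := mem_zpowers_iff.1 (hgen ⟨z, hz⟩)
      have e : a ^ i = z := by simpa using congrArg Subtype.val hi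
      have h3' : a ^ (3 : ℤ) = 1 := by simpa using hcub a ha
      rw [show i = i % 3 + 3 * (i / 3) by omega, zpow_add, zpow_mul, h3', one_zpow, mul_one] at e
      have : i % 3 = 0 ∨ i % 3 = 1 ∨ i % 3 = 2 := by omega
      rcases this with h | h | h <;> rw [h] at e <;> rw [← e] at hd
      · rw [zpow_zero] at hd; exact Or.inl (P.acts_unique hd P.acts_one)
      · rw [zpow_one] at hd; exact Or.inr (Or.inl (P.acts_unique hd hca))
      · rw [zpow_two] at hd; exact Or.inr (Or.inr (P.acts_unique hd (P.acts_comp hca hca)))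
    have key : ∀ q : Code, ¬ ((((0, 0, 4), 0) : CodeW) ∈ [eW, (q, 0), mulW (q, 0) (q, 0)] ∧
        (((4, 0, 0), 0) : CodeW) ∈ [eW, (q, 0), mulW (q, 0) (q, 0)]) := by decide +kernel
    refine key ca ⟨?_, ?_⟩
    · simpa using span x (subset_closure (Or.inl rfl)) _ hx
    · simpa using span y (subset_closure (Or.inr rfl)) _ hy
  refine L43Three.CaseB.le_of_coprime hAc hAp (fun a ha => hnorm a (hAM ha)) h3 (fun a ha ha1 h hh => ?_)
    (show g ∈ C from mem_centralizer_iff.2 (by rintro _ ⟨v, rfl⟩; exact (hg v).symm))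
  obtain ⟨c, hc⟩ := hacts a ha
  refine P.strong a (hAM ha) c hc (hcub a ha) ha1 h ?_
  rw [mem_centralizer_singleton_iff.1 hh, mul_inv_cancel_right]
  exact hAM ha

end Hyp

end Cfsg.Agent.O8Three.Wreath
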