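import Cfsg.Agent.Lib.O8Three.Wreath.Cert

/-!
S3372: certificates for the linear maps commuting with the standard 2-group of codes.
-/

set_option autoImplicit false
set_option maxRecDepth 100000
set_option maxHeartbeats 4000000
set_option synthInstance.maxSize 1000

namespace Cfsg.Agent.O8Three.Wreath

open Cfsg.Agent.O8Three.Closed (V Code key)

/-- The codes of the standard 2-group. -/
def t16 : List CodeW := [((0, 0, 0), 0), ((0, 0, 1), 0), ((0, 1, 0), 0), ((0, 1, 1), 0), ((1, 0, 0), 0), ((1, 0, 1), 0), ((1, 1, 0), 0), ((1, 1, 1), 0), ((0, 0, 0), 1), ((0, 0, 1), 1), ((0, 1, 0), 1), ((0, 1, 1), 1), ((1, 0, 0), 1), ((1, 0, 1), 1), ((1, 1, 0), 1), ((1, 1, 1), 1)]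

/-- The code carrying the first unit vector to the unit vector with number `i`. -/
def unitCode : List CodeW := [((0, 0, 0), 0), ((1, 0, 0), 0), ((0, 1, 0), 0), ((1, 1, 0), 0),
  ((0, 0, 1), 0), ((1, 0, 1), 0), ((0, 1, 1), 0), ((1, 1, 1), 0)]

/-- The linear map commuting with the standard group sending the first unit vector to `u`. -/
def gfun (u : V) (v : V) : V :=
  let l : List V := unitCode.map fun c => appW c u
  ((List.range 8).zip l).foldl (fun acc p => if v.val.testBit p.1 then acc ^^^ p.2 else acc) 0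

/-- The rank one vectors. -/
def rankOne : List V := [1, 2, 3, 4, 5, 8, 10, 12, 15, 16, 17, 32, 34, 48, 51, 64, 68, 80, 85, 128, 136, 160, 170, 192, 204, 240, 255]

theorem rankOne_mem : ∀ w : CodeW, ∀ v ∈ rankOne, appW w v ∈ rankOne := by decide +kernel

theorem t16_mul : ∀ a ∈ t16, ∀ b ∈ t16, mulW a b ∈ t16 := by decide +kernel

theorem t16_base : eW ∈ t16 ∧ dT ∈ t16 ∧ dU ∈ t16 ∧ d1 ∈ t16 ∧ d2 ∈ t16 ∧ d3 ∈ t16 := by decide +kernel

theorem t16_inv : ∀ a ∈ t16, invW a ∈ t16 := by decide +kernel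

theorem t16_fix : ∀ a ∈ t16, a ≠ eW → mulW a a = eW → a ≠ dT → a ≠ ((1, 1, 0), 1) →
    (fixL a).length ≤ 16 := by decide +kernel

theorem t16_fix64 : (fixL dT).length = 64 ∧ (fixL ((1, 1, 0), 1)).length = 64 := by decide +kernel

theorem t16_noncomm : mulW dT d1 ≠ mulW d1 dT := by decide +kernel

theorem t16_even : ∀ a ∈ t16, mulW a a = eW → mulW a dT ≠ mulW dT a → a.2 = 0 := by decide +kernel

theorem t16_centre : ∀ a ∈ t16, mulW a d1 = mulW d1 a → mulW a dT = mulW dT a →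
    mulW a d2 = mulW d2 a → a.2 = 0 := by decide +kernel

theorem t16_weight : ∀ a ∈ t16, ∀ w : CodeW,
    (mulW w d1 = mulW a w → a = d1 ∨ a = d2 ∨ a = d3) ∧
      (mulW w d3 = mulW a w → a = d1 ∨ a = d2 ∨ a = d3) := by decide +kernel

theorem t16_facts : mulW d1 dT = mulW ((1, 1, 0), 1) d1 ∧ mulW dT d1 = mulW d2 dT ∧ mulW dT d2 = mulW d1 dT ∧
    mulW dT d3 = mulW d3 dT ∧ mulW d1 d3 = mulW d3 d1 ∧ mulW d2 d3 = mulW d3 d2 ∧ d1 ≠ d3 ∧ d2 ≠ d3 := by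
  decide +kernel

theorem unit_vec : ∀ i : Fin 8, appW (unitCode.getD i.val eW) 1 = (⟨2 ^ i.val % 256, Nat.mod_lt _ (by decide)⟩ : V) ∧
    unitCode.getD i.val eW ∈ t16 := by decide +kernel

/-- The units which are codes. -/
def unitCases : List (V × Code) := [(1, (0, 0, 0)), (8, (1, 1, 0)), (16, (0, 0, 1)), (128, (1, 1, 1))]

/-- A unit, a word, a code of order three of the base, its image, a rank one vector leaving the rank one set. -/
def certs : List (V × List Code × Code × Code × V) := [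
  (7, [], (0, 0, 4), (0, 0, 4), 1),
  (14, [], (0, 0, 4), (0, 0, 4), 1),
  (22, [(2, 2, 2)], (4, 4, 4), (5, 5, 5), 1),
  (25, [(2, 2, 0)], (4, 5, 0), (5, 4, 0), 1),
  (31, [(0, 5, 3), (0, 5, 3)], (0, 4, 5), (0, 4, 4), 1),
  (97, [(2, 2, 2)], (4, 4, 5), (5, 5, 4), 1),
  (103, [(0, 2, 0)], (4, 0, 0), (4, 0, 0), 4),
  (104, [(2, 2, 2)], (4, 4, 4), (5, 5, 5), 1),
  (110, [(0, 2, 0)], (4, 0, 0), (4, 0, 0), 1),
  (112, [], (0, 0, 4), (0, 0, 5), 1),
  (118, [(0, 2, 0)], (4, 0, 0), (4, 0, 0), 4),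
  (121, [(0, 4, 1), (1, 3, 0)], (0, 4, 0), (0, 5, 0), 1),
  (127, [(5, 0, 2), (4, 0, 5)], (4, 0, 5), (5, 0, 5), 1),
  (134, [(2, 2, 2)], (4, 4, 5), (5, 5, 4), 1),
  (137, [(2, 2, 0)], (4, 5, 0), (5, 4, 0), 1),
  (143, [(5, 0, 3), (3, 1, 3)], (4, 0, 4), (4, 0, 5), 1),
  (145, [(2, 2, 0)], (4, 5, 0), (5, 4, 0), 1),
  (151, [(1, 1, 4), (0, 1, 4)], (0, 0, 4), (0, 0, 4), 1),
  (152, [(2, 2, 0)], (4, 5, 0), (5, 4, 0), 1),
  (158, [(5, 0, 0), (3, 0, 0)], (4, 0, 0), (4, 0, 0), 1),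
  (224, [], (0, 0, 4), (0, 0, 5), 1),
  (230, [(0, 2, 0)], (4, 0, 0), (4, 0, 0), 1),
  (233, [(2, 0, 1), (2, 1, 1)], (4, 0, 0), (5, 0, 0), 1),
  (239, [(0, 5, 3), (0, 2, 4)], (0, 4, 5), (0, 5, 5), 1),
  (241, [(3, 1, 4), (2, 1, 4)], (4, 0, 4), (4, 0, 4), 1),
  (247, [(3, 3, 0), (3, 3, 0)], (4, 4, 0), (5, 5, 0), 1),
  (248, [(2, 0, 0), (2, 1, 1)], (4, 0, 0), (5, 0, 0), 1),
  (254, [(0, 0, 5), (0, 0, 5)], (0, 0, 4), (0, 0, 4), 1)]

/-- The map of a word. -/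
def word (u : V) : List Code → V → V
  | [], v => gfun u v
  | a :: l, v => gfun u (appW (a, 0) (word u l v))

theorem units_cover : ∀ u : V, appW dT u = u → gfun u u = 1 →
    u ∈ unitCases.map Prod.fst ∨ u ∈ certs.map Prod.fst := by decide +kernel

theorem unitCases_spec : ∀ c ∈ unitCases, key (gfun c.1) = key (appW (c.2, 0)) := by decide +kernel

theorem certs_three : ∀ c ∈ certs,
    Closed.mulC c.2.2.1 (Closed.mulC c.2.2.1 c.2.2.1) = Closed.eC ∧ c.2.2.1 ≠ Closed.eC := by decide +kernel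

theorem certs_map : ∀ c ∈ certs, key (fun v => word c.1 c.2.1 (appW (c.2.2.1, 0) v)) =
    key (fun v => appW (c.2.2.2.1, 0) (word c.1 c.2.1 v)) := by decide +kernel

theorem certs_out : ∀ c ∈ certs, c.2.2.2.2 ∈ rankOne ∧ word c.1 c.2.1 c.2.2.2.2 ∉ rankOne := by
  decide +kernel

end Cfsg.Agent.O8Three.Wreath
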