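import Cfsg.Agent.Lib.O8Three.Wreath.Control
import Cfsg.Agent.Lib.O8Three.Wreath.Units
import Mathlib.GroupTheory.Nilpotent

/-!
S3372: with an exchange of two factors in `M`, the subgroup `M` has odd index.
-/

set_option autoImplicit false
set_option linter.style.haveILetI false
set_option maxRecDepth 20000

namespace Cfsg.Agent.O8Three.Wreath

open Subgroup Finset
open Cfsg.Agent.O8Three.Closed (V Code key)

universe u

theorem t16_four : ∀ a ∈ t16, mulW (mulW a a) (mulW a a) = eW := by decide +kernel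

theorem t16_self : ∀ w : CodeW, mulW w dT = mulW dT w → mulW w d1 = mulW d1 w → mulW w d3 = mulW d3 w →
    w ∈ t16 := by decide +kernel

theorem t16_case : ∀ a ∈ t16, (fixL a).length = 64 → a = dT ∨ a = ((1, 1, 0), 1) := by decide +kernel

theorem conj_one : ∀ b : CodeW, mulW d1 ((1, 1, 0), 1) = mulW b d1 → b = dT := by decide +kernel

theorem conj_two : ∀ b : CodeW, mulW dT d2 = mulW b dT → b = d1 := by decide +kernel

theorem conj_three : ∀ b : CodeW, mulW dT dT = mulW b dT → b = dT := by decide +kernel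

theorem d2_eq : mulW dT (mulW d1 dT) = d2 := by decide +kernel

theorem d2_ne : mulW d2 dT ≠ mulW dT d2 := by decide +kernel

theorem unitCode_cases : ∀ i : Fin 8, unitCode.getD i.val eW ∈ [eW, d1, d2, mulW d1 d2, d3, mulW d1 d3,
    mulW d2 d3, mulW d1 (mulW d2 d3)] := by decide +kernel

theorem dT_fix_one : appW dT 1 = 1 := by decide +kernel

theorem unit_criterion : ∀ u : V, appW dT u = u → gfun u 255 ≠ 0 → gfun u u = 1 := by decide +kernel

theorem vec_bits : ∀ v : V, ((List.range 8).zip ((List.finRange 8).map fun i : Fin 8 =>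
    (⟨2 ^ i.val % 256, Nat.mod_lt _ (by decide)⟩ : V))).foldl
      (fun acc p => if v.val.testBit p.1 then acc ^^^ p.2 else acc) 0 = v := by decide +kernel

theorem fold_map (σ : V → V) (h : ∀ a b, σ (a ^^^ b) = σ a ^^^ σ b) (P : ℕ → Bool) :
    ∀ (l : List (ℕ × V)) (acc : V),
      σ (l.foldl (fun acc p => if P p.1 then acc ^^^ p.2 else acc) acc) =
        (l.map fun p => (p.1, σ p.2)).foldl (fun acc p => if P p.1 then acc ^^^ p.2 else acc) (σ acc) := by
  intro l
  induction l with
  | nil => intro acc; rfl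
  | cons p l ih =>
    intro acc
    simp only [List.foldl_cons, List.map_cons]
    rw [ih]
    split <;> simp [h]

theorem unitCode_eq : unitCode = (List.finRange 8).map fun i : Fin 8 => unitCode.getD i.val eW := by
  decide +kernel

/-- An additive map commuting with the unit codes is a unit. -/
theorem eq_gfun (σ : V → V) (h : ∀ a b, σ (a ^^^ b) = σ a ^^^ σ b)
    (hc : ∀ i : Fin 8, ∀ v, σ (appW (unitCode.getD i.val eW) v) = appW (unitCode.getD i.val eW) (σ v)) :
    ∀ v, σ v = gfun (σ 1) v := by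
  intro v
  have h0 : σ 0 = 0 := by
    have h1 := h 0 0
    rw [show (0 : V) ^^^ 0 = 0 by decide, Closed.Hyp.xor_eq_zero.2 rfl] at h1
    exact h1
  have e := fold_map σ h (fun n => v.val.testBit n) ((List.range 8).zip ((List.finRange 8).map fun i : Fin 8 =>
    (⟨2 ^ i.val % 256, Nat.mod_lt _ (by decide)⟩ : V))) 0
  rw [vec_bits, h0] at e
  rw [e]
  unfold gfun
  congr 1
  rw [show (fun p : ℕ × V => (p.1, σ p.2)) = Prod.map id σ from rfl, ← List.zip_map_right, List.map_map,
    unitCode_eq, List.map_map]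
  congr 1
  refine List.map_congr_left fun i _ => ?_
  simp only [Function.comp_apply]
  rw [← (unit_vec i).1, hc i 1]

namespace Hyp

variable {X : Type u} [Group X] (P : Hyp X)

/-- The standard 2-subgroup. -/
def T : Subgroup X where
  carrier := {m | m ∈ P.M ∧ ∃ d ∈ t16, P.Acts m d}
  one_mem' := ⟨one_mem _, eW, t16_base.1, P.acts_one⟩
  mul_mem' := fun ⟨hm, a, ha, hma⟩ ⟨hn, b, hb, hnb⟩ =>
    ⟨mul_mem hm hn, _, t16_mul a ha b hb, P.acts_comp hma hnb⟩
  inv_mem' := by
    rintro m ⟨hm, a, ha, hma⟩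
    refine ⟨inv_mem hm, invW a, t16_inv a ha, fun v => ?_⟩
    have h := hma (appW (invW a) v)
    rw [← app_mul, (mulW_inv a).2, appW_eW] at h
    rw [← h]; group

theorem mem_T {m : X} : m ∈ P.T ↔ m ∈ P.M ∧ ∃ d ∈ t16, P.Acts m d := Iff.rfl

theorem T_isPGroup : IsPGroup 2 P.T := fun ⟨m, hm, a, ha, hma⟩ => ⟨3, Subtype.ext (by
  have h2 := P.acts_comp hma hma
  have h4 := P.acts_comp h2 h2
  rw [t16_four a ha] at h4
  have e := P.sq_of_eW (mul_mem (mul_mem hm hm) (mul_mem hm hm)) h4
  show m ^ 2 ^ 3 = 1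
  rw [← e, show 2 ^ 3 = (2 + 2) + (2 + 2) from rfl]
  simp only [pow_add, pow_two])⟩

/-- The vectors are the only elementary subgroup of order `2⁸` of the standard 2-subgroup. -/
theorem to_vectors (hT : P.In dT) {g : X} (hg : ∀ v, g * P.f v * g⁻¹ ∈ P.T) :
    ∀ v, ∃ u, g * P.f v * g⁻¹ = P.f u := by
  classical
  choose d hdT hd using fun v => (hg v).2
  set t : V → X := fun v => g * P.f v * g⁻¹ with ht
  have hmul : ∀ v w, t v * t w = t (v ^^^ w) := fun v w => by
    simp only [ht, P.f_xor]; group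
  have hsq : ∀ v, t v * t v = 1 := fun v => by
    simp only [ht]
    calc g * P.f v * g⁻¹ * (g * P.f v * g⁻¹) = g * (P.f v * P.f v) * g⁻¹ := by group
      _ = 1 := by rw [P.f_self]; group
  have hcomm : ∀ v w, t v * t w = t w * t v := fun v w => by
    simp only [ht]
    calc g * P.f v * g⁻¹ * (g * P.f w * g⁻¹) = g * (P.f v * P.f w) * g⁻¹ := by group
      _ = _ := by rw [P.f_comm]; group
  have hMt : ∀ v, t v ∈ P.M := fun v => (hg v).1
  by_contra hne
  push Not at hne
  obtain ⟨v0, hv0⟩ := hne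
  have hd0 : d v0 ≠ eW := fun e => by
    obtain ⟨u, hu⟩ := P.eW_of_acts (hMt v0) (e ▸ hd v0)
    exact hv0 u hu.symm
  set A := (Finset.univ : Finset V).image d with hA
  have hAt : A ⊆ t16.toFinset := fun x hx => by
    obtain ⟨v, -, rfl⟩ := Finset.mem_image.1 hx
    exact List.mem_toFinset.2 (hdT v)
  have hfib : ∀ d0, d0 ∈ A → d0 ≠ eW → ∀ b ∈ A,
      (Finset.univ.filter fun v => d v = b).card ≤ (fixL d0).length := by
    intro d0 h0 _ b hb
    obtain ⟨v1, -, rfl⟩ := Finset.mem_image.1 h0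
    obtain ⟨w, -, rfl⟩ := Finset.mem_image.1 hb
    have key : ∀ v, d v = d w → ∃ u, P.f u = t (v ^^^ w) := fun v hv => by
      refine P.eW_of_acts (hMt _) ?_
      have h1 := P.acts_comp (hd v) (hd w)
      rw [hv, P.code_sq (hd w) (hsq w)] at h1
      rw [← hmul]
      exact h1
    choose τ hτ using key
    refine le_trans ?_ (List.toFinset_card_le _)
    refine Finset.card_le_card_of_injOn (fun v => if h : d v = d w then τ v h else 0) ?_ ?_
    · intro v hv
      have hv' : d v = d w := (Finset.mem_filter.1 (Finset.mem_coe.1 hv)).2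
      simp only [dif_pos hv']
      refine Finset.mem_coe.2 (List.mem_toFinset.2 (List.mem_filter.2 ⟨List.mem_finRange _,
        decide_eq_true (P.fixed_of_comm (hd v1) ?_)⟩))
      rw [hτ]
      exact hcomm v1 _
    · intro v hv v' hv' e
      have h1 : d v = d w := (Finset.mem_filter.1 (Finset.mem_coe.1 hv)).2
      have h2 : d v' = d w := (Finset.mem_filter.1 (Finset.mem_coe.1 hv')).2
      simp only [dif_pos h1, dif_pos h2] at e
      have e2 := (hτ v h1).symm.trans ((congrArg P.f e).trans (hτ v' h2))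
      simp only [ht] at e2
      have e3 := P.f_inj (mul_left_cancel (mul_right_cancel e2))
      have := congrArg (fun z => z ^^^ w) e3
      simp only [Fin.ext_iff, Fin.xor_val_of_two_pow (w := 8), Nat.xor_assoc, Nat.xor_self,
        Nat.xor_zero] at this
      exact Fin.ext this
  by_cases hsmall : ∃ d0 ∈ A, d0 ≠ eW ∧ d0 ≠ dT ∧ d0 ≠ ((1, 1, 0), 1)
  · obtain ⟨d0, h0, he, h1, h2⟩ := hsmall
    obtain ⟨v1, -, hv1⟩ := Finset.mem_image.1 h0
    have hsq0 : mulW d0 d0 = eW := hv1 ▸ P.code_sq (hd v1) (hsq v1)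
    have h16 := t16_fix d0 (List.mem_toFinset.1 (hAt h0)) he hsq0 h1 h2
    have h15 : A.card ≤ 15 := by
      have hnot : ∃ x ∈ t16.toFinset, x ∉ A := by
        by_contra hall
        push Not at hall
        obtain ⟨a, -, ha⟩ := Finset.mem_image.1 (hall dT (List.mem_toFinset.2 t16_base.2.1))
        obtain ⟨b, -, hb⟩ := Finset.mem_image.1 (hall d1 (List.mem_toFinset.2 t16_base.2.2.2.1))
        have := P.code_comm (hd a) (hd b) (hcomm a b)
        rw [ha, hb] at this
        exact t16_noncomm this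
      obtain ⟨x, hx, hxA⟩ := hnot
      have := Finset.card_le_card (show A ⊆ t16.toFinset.erase x from fun y hy =>
        Finset.mem_erase.2 ⟨fun e => hxA (e ▸ hy), hAt hy⟩)
      rw [Finset.card_erase_of_mem hx] at this
      have h16' : t16.toFinset.card ≤ 16 := (List.toFinset_card_le _).trans (by decide)
      omega
    have := Finset.card_le_mul_card_image (f := d) (Finset.univ : Finset V) 16
      fun b hb => (hfib d0 h0 he b hb).trans h16
    rw [Finset.card_univ, Fintype.card_fin, ← hA] at this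
    omega
  · push Not at hsmall
    have h3 : A.card ≤ 3 := by
      refine (Finset.card_le_card (t := ([eW, dT, ((1, 1, 0), 1)] : List CodeW).toFinset) fun x hx => ?_).trans
        ((List.toFinset_card_le _).trans (le_of_eq rfl))
      simp only [List.mem_toFinset, List.mem_cons, List.not_mem_nil, or_false]
      by_cases h1 : x = eW
      · exact Or.inl h1
      by_cases h2 : x = dT
      · exact Or.inr (Or.inl h2)
      exact Or.inr (Or.inr (hsmall x hx h1 h2))
    have h0 : d v0 ∈ A := Finset.mem_image_of_mem d (Finset.mem_univ v0)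
    have h64 : (fixL (d v0)).length = 64 := by
      by_cases h2 : d v0 = dT
      · rw [h2]; exact t16_fix64.1
      · rw [hsmall _ h0 hd0 h2]; exact t16_fix64.2
    have := Finset.card_le_mul_card_image (f := d) (Finset.univ : Finset V) 64
      fun b hb => (hfib _ h0 hd0 b hb).trans h64.le
    rw [Finset.card_univ, Fintype.card_fin, ← hA] at this
    omega

/-- The code of the image of an element of the standard subgroup. -/
theorem code_image {g : X} {σ : V → V} (hσ : ∀ v, g * P.f v * g⁻¹ = P.f (σ v)) {m : X} {a : CodeW}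
    (hm : P.Acts m a) {b : CodeW} (hb : P.Acts (g * m * g⁻¹) b) : ∀ v, appW b (σ v) = σ (appW a v) := fun v => by
  refine P.f_inj ?_
  rw [← hσ, ← hm, ← hb, ← hσ]
  group

variable [Finite X]

/-- The standard subgroup is its own normaliser. -/
theorem normalizer_T (hT : P.In dT) {g : X} (hg : ∀ m ∈ P.T, g * m * g⁻¹ ∈ P.T) : g ∈ P.T := by
  classical
  obtain ⟨x3, hx3M, hx3a, hx33, hx31⟩ := P.exists_three (P.in_base (0, 0, 4)) (by decide +kernel) (by decide +kernel)
  obtain ⟨x1, hx1M, hx1a, hx13, hx11⟩ := P.exists_three (P.in_base (4, 0, 0)) (by decide +kernel) (by decide +kernel)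
  obtain ⟨tl, htM, htA, -, -⟩ := P.lift_fpf hT d_sq.1 hx3M hx3a fpf_e3 d_comm.1
  obtain ⟨ul, huM, huA, huu⟩ := P.lift_free (d := d1) (P.in_base _) d_sq.2.2.1 free_d.2.1
  obtain ⟨wl, hwM, hwA, hww⟩ := P.lift_free (d := d3) (P.in_base _) d_sq.2.2.2.2 free_d.2.2.2
  have htT : tl ∈ P.T := ⟨htM, _, t16_base.2.1, htA⟩
  have huT : ul ∈ P.T := ⟨huM, _, t16_base.2.2.2.1, huA⟩
  have hwT : wl ∈ P.T := ⟨hwM, _, t16_base.2.2.2.2.2, hwA⟩
  have hfT : ∀ v, P.f v ∈ P.T := fun v => ⟨P.f_mem v, eW, t16_base.1, P.acts_f v⟩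
  have conjT : ∀ n ∈ P.T, ∀ h : X, (∀ m ∈ P.T, h * m * h⁻¹ ∈ P.T) → ∀ m ∈ P.T, n * h * m * (n * h)⁻¹ ∈ P.T :=
    fun n hn h hh m hm => by
      rw [show n * h * m * (n * h)⁻¹ = n * (h * m * h⁻¹) * n⁻¹ by group]
      exact mul_mem (mul_mem hn (hh m hm)) (inv_mem hn)
  -- images of the generators
  have image : ∀ h : X, (∀ m ∈ P.T, h * m * h⁻¹ ∈ P.T) → ∃ σ : V → V, (∀ v, h * P.f v * h⁻¹ = P.f (σ v)) ∧
      (∀ a b, σ (a ^^^ b) = σ a ^^^ σ b) ∧ Function.Bijective σ := by
    intro h hh
    choose σ hσ using P.to_vectors hT fun v => hh _ (hfT v)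
    have hinj : Function.Injective σ := fun a b e => by
      have := (hσ a).trans ((congrArg P.f e).trans (hσ b).symm)
      exact P.f_inj (mul_left_cancel (mul_right_cancel this))
    refine ⟨σ, hσ, fun a b => P.f_inj ?_, hinj, Finite.injective_iff_surjective.1 hinj⟩
    rw [P.f_xor, ← hσ, ← hσ, ← hσ, P.f_xor]
    group
  -- exchange
  have step1 : ∃ n ∈ P.T, ∃ z, P.Acts z dT ∧ z ∈ P.T ∧ ∀ b, P.Acts (n * g * tl * (n * g)⁻¹) b → b = dT := by
    obtain ⟨σ, hσ, -, hbij⟩ := image g hg
    obtain ⟨-, a, ha, haA⟩ := hg tl htT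
    have hfix : (fixL a).length = 64 := by
      rw [← t16_fix64.1, fixL, fixL, ← List.toFinset_card_of_nodup ((List.nodup_finRange _).filter _),
        ← List.toFinset_card_of_nodup ((List.nodup_finRange _).filter _)]
      symm
      refine Finset.card_bij (fun v _ => σ v) ?_ (fun v _ w _ e => hbij.1 e) ?_
      · intro v hv
        simp only [List.mem_toFinset, List.mem_filter, List.mem_finRange, true_and, decide_eq_true_eq] at hv ⊢
        rw [P.code_image hσ htA haA, hv]
      · intro v hv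
        obtain ⟨v0, rfl⟩ := hbij.2 v
        simp only [List.mem_toFinset, List.mem_filter, List.mem_finRange, true_and, decide_eq_true_eq] at hv ⊢
        exact ⟨v0, hbij.1 (by rw [← P.code_image hσ htA haA, hv]), rfl⟩
    rcases t16_case a ha hfix with rfl | rfl
    · refine ⟨1, one_mem _, tl, htA, htT, fun b hb => P.acts_unique hb ?_⟩
      rwa [one_mul]
    · refine ⟨ul, huT, tl, htA, htT, fun b hb => ?_⟩
      have h1 := P.code_conj huA haA hb (show ul * (g * tl * g⁻¹) * ul⁻¹ = _ by group)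
      exact conj_one b h1
  obtain ⟨n1, hn1, -, -, -, hT1⟩ := step1
  have hg1 : ∀ m ∈ P.T, n1 * g * m * (n1 * g)⁻¹ ∈ P.T := conjT n1 hn1 g hg
  set g1 := n1 * g with hg1def
  have codeT : ∀ h : X, (∀ m ∈ P.T, h * m * h⁻¹ ∈ P.T) → (∀ b, P.Acts (h * tl * h⁻¹) b → b = dT) →
      P.Acts (h * tl * h⁻¹) dT := fun h hh hu => by
    obtain ⟨-, a, -, haA⟩ := hh tl htT
    exact hu a haA ▸ haA
  have htA1 := codeT g1 hg1 hT1
  -- an involution of the first factor
  have weight : ∀ h : X, ∀ u0 c0 : X, ∀ d0 : CodeW, u0 ∈ P.M → u0 * u0 = 1 → P.Acts u0 d0 → NoCycle d0 →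
      ∀ (x : X) (c : Code), x ∈ P.M → P.Acts x (c, 0) → NoCycle (c, 0) → x ^ 3 = 1 → x ≠ 1 →
        mulW d0 (c, 0) = mulW (c, 0) d0 → Free d0 →
      ∀ a : CodeW, h * u0 * h⁻¹ ∈ P.M → P.Acts (h * u0 * h⁻¹) a → a.2 = 0 → ∃ w, mulW w d0 = mulW a w := by
    intro h u0 _ d0 hu0M hu0 hd0 hnc x c hxM hx hc hx3 hx1 hcd hfree a haM ha ha2
    have hne : ((c, 0) : CodeW) ≠ eW := fun e => hx1 (by
      have := P.sq_of_eW hxM (e ▸ hx)
      rw [pow_three, this, mul_one] at hx3
      exact hx3)
    have hc3 : mulW (c, 0) (mulW (c, 0) (c, 0)) = eW :=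
      P.acts_unique (P.acts_comp hx (P.acts_comp hx hx)) (by rw [← pow_three, hx3]; exact P.acts_one)
    obtain ⟨x', hx'M, hx'a, hx'3, hx'1, hx'u⟩ :=
      P.three_free hu0M hd0 hu0 hfree (P.in_base c) hne hc3 hcd.symm
    have hss : h * u0 * h⁻¹ * (h * u0 * h⁻¹) = 1 := by
      calc h * u0 * h⁻¹ * (h * u0 * h⁻¹) = h * (u0 * u0) * h⁻¹ := by group
        _ = 1 := by rw [hu0]; group
    obtain ⟨ac, ap⟩ := a
    simp only at ha2
    subst ha2
    obtain ⟨y, hyM, hy3, hy1, hys⟩ := P.three_even haM hss ha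
    obtain ⟨m, hm, hme⟩ := P.ctl hu0M hd0 hnc hx'M hx'a hc hx'3 hx'1 hx'u hyM hy3 hy1 hys
    obtain ⟨w, hw⟩ := P.act m hm
    exact ⟨w, P.code_conj hw hd0 ha hme⟩
  obtain ⟨huM1, a1, ha1, ha1A⟩ := hg1 ul huT
  have hcode1 : mulW dT d1 ≠ mulW d1 dT := t16_noncomm
  have ha12 : a1 = d1 ∨ a1 = d2 := by
    have hsq : mulW a1 a1 = eW := P.code_sq ha1A (by
      calc g1 * ul * g1⁻¹ * (g1 * ul * g1⁻¹) = g1 * (ul * ul) * g1⁻¹ := by group
        _ = 1 := by rw [huu]; group)
    have hnc : mulW a1 dT ≠ mulW dT a1 := fun e => hcode1 (by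
      obtain ⟨σ, hσ, -, hbij⟩ := image g1 hg1
      refine appW_inj fun v => hbij.1 ?_
      rw [app_mul, app_mul, ← P.code_image hσ htA htA1, ← P.code_image hσ huA ha1A, ← app_mul, ← e, app_mul,
        P.code_image hσ htA htA1, P.code_image hσ huA ha1A])
    obtain ⟨w, hw⟩ := weight g1 ul ul d1 huM huu huA noCycle_d.2.2.1 x3 _ hx3M hx3a pins.1.2.2 hx33 hx31
      d_comm.2.2.1 free_d.2.1 a1 huM1 ha1A (t16_even a1 ha1 hsq hnc)
    rcases (t16_weight a1 ha1 w).1 hw with h | h | h
    · exact Or.inl h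
    · exact Or.inr h
    · subst h
      exact absurd t16_facts.2.2.2.1.symm hnc
  obtain ⟨n2, hn2, hU2, hT2⟩ : ∃ n ∈ P.T, P.Acts (n * g1 * ul * (n * g1)⁻¹) d1 ∧
      P.Acts (n * g1 * tl * (n * g1)⁻¹) dT := by
    rcases ha12 with rfl | rfl
    · exact ⟨1, one_mem _, by rwa [one_mul], by rwa [one_mul]⟩
    · refine ⟨tl, htT, ?_, ?_⟩
      · obtain ⟨-, b, -, hb⟩ := conjT tl htT g1 hg1 ul huT
        have h1 := P.code_conj htA ha1A hb (show tl * (g1 * ul * g1⁻¹) * tl⁻¹ = _ by group)
        exact conj_two b h1 ▸ hb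
      · obtain ⟨-, b, -, hb⟩ := conjT tl htT g1 hg1 tl htT
        have h1 := P.code_conj htA htA1 hb (show tl * (g1 * tl * g1⁻¹) * tl⁻¹ = _ by group)
        exact conj_three b h1 ▸ hb
  set h := n2 * g1 with hh
  have hhT : ∀ m ∈ P.T, h * m * h⁻¹ ∈ P.T := conjT n2 hn2 g1 hg1
  obtain ⟨σ, hσ, hlin, hbij⟩ := image h hhT
  have cT : ∀ v, appW dT (σ v) = σ (appW dT v) := P.code_image hσ htA hT2
  have c1 : ∀ v, appW d1 (σ v) = σ (appW d1 v) := P.code_image hσ huA hU2
  have c2 : ∀ v, appW d2 (σ v) = σ (appW d2 v) := fun v => by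
    rw [← d2_eq, app_mul, app_mul, cT, c1, cT, app_mul, app_mul]
  have c3 : ∀ v, appW d3 (σ v) = σ (appW d3 v) := by
    obtain ⟨hwM1, a, ha, haA⟩ := hhT wl hwT
    have hc := P.code_image hσ hwA haA
    have comm : ∀ e : CodeW, (∀ v, appW e (σ v) = σ (appW e v)) → mulW d3 e = mulW e d3 →
        mulW a e = mulW e a := fun e he hde => appW_inj fun v => by
      obtain ⟨v0, rfl⟩ := hbij.2 v
      rw [app_mul, app_mul, he, hc, hc, he, ← app_mul, ← app_mul, hde]
    have hcen := t16_centre a ha (comm d1 c1 t16_facts.2.2.2.2.1.symm) (comm dT cT t16_facts.2.2.2.1.symm)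
      (comm d2 c2 t16_facts.2.2.2.2.2.1.symm)
    obtain ⟨w, hw⟩ := weight h wl wl d3 hwM hww hwA noCycle_d.2.2.2 x1 _ hx1M hx1a pins.2.1.2.2 hx13 hx11
      d_comm.2.2.2.2 free_d.2.2.2 a hwM1 haA hcen
    rcases (t16_weight a ha w).2 hw with e | e | e <;> subst e
    · exact fun v => absurd (comm dT cT t16_facts.2.2.2.1.symm) hcode1.symm
    · exact fun v => absurd (comm dT cT t16_facts.2.2.2.1.symm) d2_ne
    · exact hc
  -- a unit
  have hunit : ∀ v, σ v = gfun (σ 1) v := by
    refine eq_gfun σ hlin fun i v => ?_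
    have ei := unitCode_cases i
    simp only [List.mem_cons, List.not_mem_nil, or_false] at ei
    symm
    rcases ei with e | e | e | e | e | e | e | e <;> rw [e] <;> simp only [appW_eW, app_mul, c1, c2, c3]
  set u := σ 1 with hu
  have hfixu : appW dT u = u := by
    rw [hu, cT, dT_fix_one]
  have h255 : gfun u 255 ≠ 0 := fun e => by
    rw [← hunit] at e
    have h0 : σ 0 = 0 := by
      have h1 := hlin 0 0
      rw [show (0 : V) ^^^ 0 = 0 by decide, Closed.Hyp.xor_eq_zero.2 rfl] at h1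
      exact h1
    exact absurd (hbij.1 (e.trans h0.symm)) (by decide)
  -- an element inducing the map of a code lies in `M`
  have inM : ∀ (z : X) (c : Code), (∀ v, z * P.f v * z⁻¹ = P.f (appW (c, 0) v)) → z ∈ P.M := by
    intro z c hz
    obtain ⟨m, hm, hma⟩ := P.in_base c
    have h1 : m⁻¹ * z ∈ P.M := P.cent_le fun v => by
      have e : z * P.f v * z⁻¹ = m * P.f v * m⁻¹ := (hz v).trans (hma v).symm
      rw [mul_inv_eq_iff_eq_mul] at e
      calc m⁻¹ * z * P.f v = m⁻¹ * (z * P.f v) := mul_assoc _ _ _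
        _ = m⁻¹ * (m * P.f v * m⁻¹ * z) := by rw [e]
        _ = P.f v * (m⁻¹ * z) := by group
    simpa using mul_mem hm h1
  have hhM : h ∈ P.M := by
    rcases units_cover u hfixu (unit_criterion u hfixu h255) with hm | hm
    · obtain ⟨c, hc, hcu⟩ := List.mem_map.1 hm
      refine inM h c.2 fun v => ?_
      rw [hσ, hunit]
      congr 1
      have hk := unitCases_spec c hc
      rw [hcu] at hk
      have lin : ∀ a b, appW (c.2, 0) (a ^^^ b) = appW (c.2, 0) a ^^^ appW (c.2, 0) b := fun a b => by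
        obtain ⟨m, -, hma⟩ := P.in_base c.2
        refine P.f_inj ?_
        rw [P.f_xor, ← hma, ← hma, ← hma, P.f_xor]
        group
      exact eq_of_key (fun a b => by rw [← hunit, ← hunit, ← hunit, hlin]) lin hk v
    · obtain ⟨⟨u', as, x, c, v⟩, hc, rfl⟩ := List.mem_map.1 hm
      exfalso
      have hword : ∀ l : List Code, ∃ H : X, ∀ v, H * P.f v * H⁻¹ = P.f (word u l v) := by
        intro l
        induction l with
        | nil => exact ⟨h, fun v => by rw [hσ, hunit]; rfl⟩
        | cons a l ih =>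
          obtain ⟨H, hH⟩ := ih
          obtain ⟨m, -, hma⟩ := P.in_base a
          refine ⟨h * (m * H), fun v => ?_⟩
          calc h * (m * H) * P.f v * (h * (m * H))⁻¹ = h * (m * (H * P.f v * H⁻¹) * m⁻¹) * h⁻¹ := by group
            _ = P.f (word u (a :: l) v) := by rw [hH, hma, hσ, hunit]; rfl
      obtain ⟨H, hH⟩ := hword as
      have h3 := certs_three _ hc
      have hmap := certs_map _ hc
      simp only at h3 hmap
      obtain ⟨xl, hxlM, hxlA, hxl3, hxl1⟩ := P.exists_three (P.in_base x)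
        (fun e => h3.2 (congrArg Prod.fst e)) (by rw [mulW_base, mulW_base, h3.1]; rfl)
      have hlinc : ∀ (z : X) (f0 : V → V), (∀ v, z * P.f v * z⁻¹ = P.f (f0 v)) →
          ∀ a b, f0 (a ^^^ b) = f0 a ^^^ f0 b := fun z f0 hz a b => by
        refine P.f_inj ?_
        rw [P.f_xor, ← hz, ← hz, ← hz, P.f_xor]
        group
      have hHM : H ∈ P.M := by
        refine P.strong xl hxlM x hxlA hxl3 hxl1 H (inM _ c fun v => ?_)
        obtain ⟨v0, rfl⟩ : ∃ v0, word u as v0 = v := by
          refine Finite.injective_iff_surjective.1 (fun a b e => ?_) v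
          have := congrArg P.f e
          rw [← hH, ← hH] at this
          exact P.f_inj (mul_left_cancel (mul_right_cancel this))
        calc H * xl * H⁻¹ * P.f (word u as v0) * (H * xl * H⁻¹)⁻¹
            = H * (xl * (H⁻¹ * P.f (word u as v0) * H) * xl⁻¹) * H⁻¹ := by group
          _ = P.f (word u as (appW (x, 0) v0)) := by
              rw [show H⁻¹ * P.f (word u as v0) * H = P.f v0 by rw [← hH]; group, hxlA, hH]
          _ = P.f (appW (c, 0) (word u as v0)) := by
              refine congrArg P.f (eq_of_key ?_ ?_ hmap v0)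
              · exact hlinc (H * xl) _ fun v => by
                  calc H * xl * P.f v * (H * xl)⁻¹ = H * (xl * P.f v * xl⁻¹) * H⁻¹ := by group
                    _ = _ := by rw [hxlA, hH]
              · obtain ⟨m, -, hma⟩ := P.in_base c
                exact hlinc (m * H) _ fun v => by
                  calc m * H * P.f v * (m * H)⁻¹ = m * (H * P.f v * H⁻¹) * m⁻¹ := by group
                    _ = _ := by rw [hH, hma]
      obtain ⟨w, hw⟩ := P.act H hHM
      have ho := certs_out _ hc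
      simp only at ho
      refine ho.2 ?_
      rw [← P.f_inj ((hw v).symm.trans (hH v))]
      exact rankOne_mem w v ho.1
  -- conclusion
  have hhT' : h ∈ P.T := by
    obtain ⟨w, hw⟩ := P.act h hhM
    have key : ∀ (m : X) (e : CodeW), P.Acts m e → P.Acts (h * m * h⁻¹) e → mulW w e = mulW e w :=
      fun m e hm hm' => P.code_conj hw hm hm' rfl
    refine ⟨hhM, w, t16_self w (key tl dT htA hT2) (key ul d1 huA hU2) ?_, hw⟩
    refine appW_inj fun v => P.f_inj ?_
    have e : ∀ v, σ v = appW w v := fun v => P.f_inj ((hσ v).symm.trans (hw v))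
    rw [app_mul, app_mul, ← e, ← e, c3]
  have e : g = n1⁻¹ * (n2⁻¹ * h) := by rw [hh, hg1def]; group
  rw [e]
  exact mul_mem (inv_mem hn1) (mul_mem (inv_mem hn2) hhT')
where
  eq_of_key {s t : V → V} (hs : ∀ a b, s (a ^^^ b) = s a ^^^ s b) (ht : ∀ a b, t (a ^^^ b) = t a ^^^ t b)
      (hk : Closed.key s = Closed.key t) (v : V) : s v = t v := by
    have h0 : ∀ r : V → V, (∀ a b, r (a ^^^ b) = r a ^^^ r b) → r 0 = 0 := fun r hr => by
      have h1 := hr 0 0
      rw [show (0 : V) ^^^ 0 = 0 by decide, Closed.Hyp.xor_eq_zero.2 rfl] at h1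
      exact h1
    set l := ((List.range 8).zip ((List.finRange 8).map fun i : Fin 8 =>
      (⟨2 ^ i.val % 256, Nat.mod_lt _ (by decide)⟩ : V))) with hl
    have e1 := fold_map s hs (fun n => v.val.testBit n) l 0
    have e2 := fold_map t ht (fun n => v.val.testBit n) l 0
    rw [hl, vec_bits, h0 s hs] at e1
    rw [hl, vec_bits, h0 t ht] at e2
    rw [e1, e2, show (fun p : ℕ × V => (p.1, s p.2)) = Prod.map id s from rfl,
      show (fun p : ℕ × V => (p.1, t p.2)) = Prod.map id t from rfl, ← List.zip_map_right, ← List.zip_map_right,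
      List.map_map, List.map_map]
    have hb : ((List.finRange 8).map fun i : Fin 8 => (⟨2 ^ i.val % 256, Nat.mod_lt _ (by decide)⟩ : V)) =
        [1, 2, 4, 8, 16, 32, 64, 128] := by decide +kernel
    rw [← List.map_map (g := s), ← List.map_map (g := t), hb]
    exact congrArg (fun k => ((List.range 8).zip k).foldl _ 0) hk

/-- **With an exchange of two factors the index of `M` is odd.** -/
theorem index_odd (hT : P.In dT) : Odd P.M.index := by
  haveI : Fact (Nat.Prime 2) := ⟨Nat.prime_two⟩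
  obtain ⟨S, hS⟩ := P.T_isPGroup.exists_le_sylow
  have hST : (S : Subgroup X) ≤ P.T := by
    by_contra hlt
    haveI := S.isPGroup'.isNilpotent
    have hne : P.T.subgroupOf (S : Subgroup X) < ⊤ :=
      lt_top_iff_ne_top.2 fun h => hlt (subgroupOf_eq_top.1 h)
    have hlt2 := Group.normalizerCondition_of_isNilpotent (G := (S : Subgroup X)) (P.T.subgroupOf (S : Subgroup X)) hne
    obtain ⟨g, hgN, hgT⟩ := SetLike.exists_of_lt hlt2
    refine hgT (mem_subgroupOf.2 (P.normalizer_T hT fun m hm => ?_))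
    have := (mem_normalizer_iff.1 hgN ⟨m, hS hm⟩).1 (mem_subgroupOf.2 hm)
    simpa [mem_subgroupOf] using this
  have hle : (S : Subgroup X) ≤ P.M := fun x hx => (P.mem_T.1 (hST hx)).1
  rw [Nat.odd_iff, ← Nat.two_dvd_ne_zero]
  exact fun h => S.not_dvd_index (h.trans (index_dvd_of_le hle))

end Hyp

end Cfsg.Agent.O8Three.Wreath
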