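import Cfsg.Agent.Lib.O8Three.Wreath.Sylow
import Mathlib.GroupTheory.Transfer

/-!
S3372: with an exchange of two factors in `M`, the transfer extends the parity of the permutation of the factors.
-/

set_option autoImplicit false
set_option linter.style.haveILetI false

namespace Cfsg.Agent.O8Three.Wreath

open Subgroup Multiplicative
open Cfsg.Agent.O8Three.Closed (V Code)

universe u

theorem two_facts : (∀ a : Multiplicative (ZMod 2), a * a = 1) ∧
    (∀ a : Multiplicative (ZMod 2), a * (a * a) = 1 → a = 1) ∧ ∀ a : ZMod 2, a ≠ 1 → a = 0 := by decide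

theorem even_perm : ∀ p : Fin 6, sgn p = 0 → p ≠ 4 → p ≠ 5 → p = 0 := by decide +kernel

theorem perm_one_ne : ∀ p : Fin 6, mulP p 1 ≠ mulP 0 p := by decide +kernel

theorem dU_eq : mulW ((((0, 0, 1) : Code), 0) : CodeW) dT = dU ∧ mulW dU dT = d3 := by decide +kernel

theorem odd_perm : ∀ p ∈ ([1, 2, 3] : List (Fin 6)),
    ∃ q ∈ ([0, 4, 5] : List (Fin 6)), ((Closed.eC, p) : CodeW) = mulW (Closed.eC, q) dT := by decide +kernel

theorem perm_cases : ∀ p : Fin 6, p ∈ ([1, 2, 3] : List (Fin 6)) ∨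
    (p ∈ ([0, 4, 5] : List (Fin 6)) ∧ sgn p = 0 ∧
      mulW (Closed.eC, p) (mulW (Closed.eC, p) (Closed.eC, p)) = eW) := by decide +kernel

theorem split_perm : ∀ c : Code, ∀ p, ((c, p) : CodeW) = mulW (c, 0) (Closed.eC, p) := by decide +kernel

theorem axis_split : ∀ c : Code, c = Closed.mulC (axis 0 c.1) (Closed.mulC (axis 1 c.2.1) (axis 2 c.2.2)) := by
  decide +kernel

theorem six_cases : ∀ s : Fin 6, s ∈ ([0, 4, 5] : List (Fin 6)) ∨ s = 1 ∨ s ∈ ([2, 3] : List (Fin 6)) := by
  decide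

theorem t_even : ∀ i, ∀ t ∈ ([4, 5] : List (Fin 6)),
    Closed.mulC (axis i t) (Closed.mulC (axis i t) (axis i t)) = Closed.eC := by decide +kernel

/-- The transfer of an involution all of whose conjugates in the subgroup have the same value. -/
theorem transfer_inv {G : Type u} [Group G] [Finite G] {H : Subgroup G} {A : Type} [CommGroup A] (φ : H →* A)
    {u : G} (hu : u * u = 1) {a : A} (ha : a * a = 1)
    (h : ∀ g : G, ∀ hh : g⁻¹ * u * g ∈ H, φ ⟨_, hh⟩ = a) : φ.transfer u = a ^ H.index := by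
  classical
  letI := H.fintypeQuotientOfFiniteIndex
  rw [MonoidHom.transfer_eq_prod_quotient_orbitRel_zpowers_quot, index_eq_sum_minimalPeriod H u,
    ← Finset.prod_pow_eq_pow_sum]
  refine Finset.prod_congr rfl fun q _ => ?_
  obtain ⟨j, hj | hj⟩ := Nat.even_or_odd' (Function.minimalPeriod (u • ·) q.out)
  · have e : u ^ Function.minimalPeriod (u • ·) q.out = 1 := by rw [hj, pow_mul, pow_two, hu, one_pow]
    have e2 : a ^ Function.minimalPeriod (u • ·) q.out = 1 := by rw [hj, pow_mul, pow_two, ha, one_pow]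
    rw [e2, ← map_one φ]
    exact congrArg φ (Subtype.ext (by simp [e]))
  · have e : u ^ Function.minimalPeriod (u • ·) q.out = u := by
      rw [hj, pow_succ, pow_mul, pow_two, hu, one_pow, one_mul]
    have e2 : a ^ Function.minimalPeriod (u • ·) q.out = a := by
      rw [hj, pow_succ, pow_mul, pow_two, ha, one_pow, one_mul]
    have hmem : q.out.out⁻¹ * u * q.out.out ∈ H := by
      have := QuotientGroup.out_conj_pow_minimalPeriod_mem H u q.out
      rwa [e] at this
    rw [e2, ← h _ hmem]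
    exact congrArg φ (Subtype.ext (by simp only [e]))

namespace Hyp

variable {X : Type u} [Group X] (P : Hyp X)

/-- The code of an element of `M`. -/
noncomputable def codeOf (m : P.M) : CodeW := Classical.choose (P.act m m.2)

theorem codeOf_spec (m : P.M) : P.Acts (m : X) (P.codeOf m) := Classical.choose_spec (P.act m m.2)

theorem codeOf_eq {m : X} (hm : m ∈ P.M) {w : CodeW} (h : P.Acts m w) : P.codeOf ⟨m, hm⟩ = w :=
  P.acts_unique (P.codeOf_spec ⟨m, hm⟩) h

/-- The parity of the permutation of the factors. -/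
noncomputable def parity : P.M →* Multiplicative (ZMod 2) where
  toFun m := ofAdd (sgn (P.codeOf m).2)
  map_one' := by
    rw [P.acts_unique (P.codeOf_spec 1) P.acts_one]
    rfl
  map_mul' m n := by
    rw [P.acts_unique (P.codeOf_spec (m * n)) (P.acts_comp (P.codeOf_spec m) (P.codeOf_spec n))]
    exact congrArg ofAdd (sgn_mul _ _)

theorem parity_eq {m : X} (hm : m ∈ P.M) {w : CodeW} (h : P.Acts m w) :
    P.parity ⟨m, hm⟩ = ofAdd (sgn w.2) := by
  show ofAdd (sgn (P.codeOf ⟨m, hm⟩).2) = _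
  rw [P.codeOf_eq hm h]

variable [Finite X]

/-- **The transfer extends the parity.** -/
theorem exists_parity (hT : P.In dT) : ∃ W : X →* Multiplicative (ZMod 2),
    ∀ m ∈ P.M, ∀ w, P.Acts m w → W m = ofAdd (sgn w.2) := by
  classical
  set W := P.parity.transfer with hW
  have hk : Odd P.M.index := P.index_odd hT
  -- involutions exchanging the first two factors
  have hex : ∀ u ∈ P.M, ∀ d : CodeW, P.Acts u d → u * u = 1 → d.2 = 1 → NoCycle d →
      ∀ x ∈ P.M, ∀ c : Code, P.Acts x (c, 0) → NoCycle (c, 0) → x ^ 3 = 1 → x ≠ 1 → x * u = u * x →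
        W u = ofAdd 1 := by
    intro u huM d hd huu hd2 hnc x hxM c hx hc hx3 hx1 hxu
    rw [hW, transfer_inv P.parity huu (two_facts.1 (ofAdd 1)) fun g hh => ?_]
    · obtain ⟨j, hj⟩ := hk
      rw [hj, pow_succ, pow_mul, pow_two, two_facts.1, one_pow, one_mul]
    · obtain ⟨w, hw⟩ := P.act _ hh
      rw [P.parity_eq hh hw]
      refine congrArg ofAdd (by_contra fun hne => ?_)
      have hss : g⁻¹ * u * g * (g⁻¹ * u * g) = 1 := by
        calc g⁻¹ * u * g * (g⁻¹ * u * g) = g⁻¹ * (u * u) * g := by group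
          _ = 1 := by rw [huu, mul_one, inv_mul_cancel]
      obtain ⟨h4, h5⟩ := perm_inv w (P.code_sq hw hss)
      obtain ⟨wc, wp⟩ := w
      simp only at hne h4 h5
      obtain rfl := even_perm wp (two_facts.2.2 _ hne) h4 h5
      obtain ⟨y, hyM, hy3, hy1, hys⟩ := P.three_even hh hss hw
      obtain ⟨m, hm, hme⟩ := P.ctl huM hd hnc hxM hx hc hx3 hx1 hxu (g := g⁻¹) hyM hy3 hy1
        (by rwa [inv_inv])
      obtain ⟨v, hv⟩ := P.act m hm
      rw [inv_inv] at hme
      have := congrArg Prod.snd (P.code_conj hv hd hw hme)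
      simp only [mulW, hd2] at this
      exact perm_one_ne v.2 this
  -- elements with equal codes have equal values
  have hvec : ∀ v, W (P.f v) = 1 := fun v => by
    obtain ⟨b, -, hb⟩ := List.mem_map.1 (comm_onto v)
    obtain ⟨m, hm, hma⟩ := P.in_base (4, 0, 0)
    rw [← hb, P.f_xor, ← hma, map_mul, map_mul, map_mul, map_inv,
      show W m * W (P.f b) * (W m)⁻¹ = W (P.f b) by rw [mul_comm (W m), mul_inv_cancel_right]]
    exact two_facts.1 _
  have same : ∀ m ∈ P.M, ∀ n ∈ P.M, ∀ w, P.Acts m w → P.Acts n w → W m = W n := by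
    intro m hm n hn w hmw hnw
    obtain ⟨i, hi⟩ := P.act (m⁻¹ * n) (mul_mem (inv_mem hm) hn)
    have h1 := P.acts_comp hmw hi
    rw [mul_inv_cancel_left] at h1
    have h2 : i = eW := appW_inj fun v => by
      have e := P.acts_unique h1 hnw
      have h3 : P.f (appW w (appW i v)) = P.f (appW w v) := by rw [← app_mul, e]
      rw [← hmw, ← hmw] at h3
      rw [appW_eW]
      exact P.f_inj (mul_left_cancel (mul_right_cancel h3))
    obtain ⟨v, hv⟩ := P.eW_of_acts (mul_mem (inv_mem hm) hn) (h2 ▸ hi)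
    rw [show n = m * (m⁻¹ * n) by group, map_mul W m, ← hv, hvec, mul_one]
  let Z : CodeW → Prop := fun w => ∀ m ∈ P.M, P.Acts m w → W m = ofAdd (sgn w.2)
  have hmul : ∀ a b, P.In a → P.In b → Z a → Z b → Z (mulW a b) := by
    rintro a b ⟨ma, hma, hA⟩ ⟨mb, hmb, hB⟩ za zb m hm hw
    rw [same m hm _ (mul_mem hma hmb) _ hw (P.acts_comp hA hB), map_mul, za ma hma hA, zb mb hmb hB]
    show ofAdd (sgn a.2 + sgn b.2) = _
    rw [← sgn_mul]
    rfl
  have hcube : ∀ w, P.In w → mulW w (mulW w w) = eW → sgn w.2 = 0 → Z w := by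
    rintro w - h3 h0 m hm hw
    obtain ⟨v, hv⟩ := P.eW_of_acts (mul_mem hm (mul_mem hm hm)) (h3 ▸ P.acts_comp hw (P.acts_comp hw hw))
    have := congrArg W hv
    rw [hvec, map_mul, map_mul] at this
    rw [h0]
    exact two_facts.2.1 _ this.symm
  obtain ⟨x3, hx3M, hx3a, hx33, hx31⟩ := P.exists_three (P.in_base (0, 0, 4)) (by decide +kernel) (by decide +kernel)
  obtain ⟨t, htM, htA, htt, htx⟩ := P.lift_fpf hT d_sq.1 hx3M hx3a fpf_e3 d_comm.1
  have hWt : W t = ofAdd 1 :=
    hex t htM dT htA htt rfl noCycle_d.1 x3 hx3M _ hx3a pins.1.2.2 hx33 hx31 htx.symm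
  have zT : Z dT := fun m hm hw => by rw [same m hm t htM _ hw htA, hWt]; rfl
  have inU : P.In dU := dU_eq.1 ▸ In.mul (P.in_base (0, 0, 1)) hT
  obtain ⟨u, huM, huA, huu⟩ := P.lift_free inU d_sq.2.1 free_d.1
  obtain ⟨x4, hx4M, hx4a, hx43, hx41, hx4u⟩ := P.three_free huM huA huu free_d.1 (P.in_base (4, 4, 0))
    (by decide +kernel) (by decide +kernel) d_comm.2.1.symm
  have hWu : W u = ofAdd 1 :=
    hex u huM dU huA huu rfl noCycle_d.2.1 x4 hx4M _ hx4a pins.2.2.2.2 hx43 hx41 hx4u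
  have zU : Z dU := fun m hm hw => by rw [same m hm u huM _ hw huA, hWu]; rfl
  have z3 : Z d3 := dU_eq.2 ▸ hmul _ _ inU hT zU zT
  have shiftback : ∀ a b : CodeW, ∀ t, P.In a → P.In t → a.2 = 0 → b.2 = 0 → mulW t a = mulW b t → Z b → Z a := by
    rintro a b t ⟨ma, hma, hA⟩ ⟨mt, hmt, hA'⟩ ha hb e zb m hm hw
    obtain ⟨mb, hmb, hB⟩ := P.in_base b.1
    have hB' : P.Acts mb b := by
      have e : b = (b.1, 0) := Prod.ext rfl hb
      rw [e]; exact hB
    have h1 := same _ (mul_mem hmt hm) _ (mul_mem hmb hmt) _ (P.acts_comp hA' hw) (e ▸ P.acts_comp hB' hA')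
    rw [map_mul, map_mul, zb mb hmb hB', hb, mul_comm (ofAdd (sgn 0))] at h1
    rw [mul_left_cancel h1, ha]
  have z2 : Z d2 := shiftback d2 d3 dS (P.in_base _) P.cycle rfl rfl axis_cycle.2 z3
  have z1 : Z d1 := shiftback d1 d2 dS (P.in_base _) P.cycle rfl rfl axis_cycle.1 z2
  have zaxis : ∀ i, ∀ s, Z (axis i s, 0) := by
    intro i s
    have zone : Z (axis i 1, 0) := by
      fin_cases i
      · exact z1
      · exact z2
      · exact z3
    rcases six_cases s with h | rfl | h
    · refine hcube _ (P.in_base _) ?_ rfl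
      rw [mulW_base, mulW_base, axis_cube i s h]; rfl
    · exact zone
    · obtain ⟨t, ht, e⟩ := axis_conj i s h
      have e' : mulW (axis i t, 0) (axis i 1, 0) = mulW (axis i s, 0) (axis i t, 0) := by
        rw [mulW_base, mulW_base, e]
      intro m hm hw
      obtain ⟨mt, hmt, hA⟩ := P.in_base (axis i t)
      obtain ⟨m1, hm1, hA1⟩ := P.in_base (axis i 1)
      have h1 := same _ (mul_mem hmt hm1) _ (mul_mem hm hmt) _ (P.acts_comp hA hA1) (e' ▸ P.acts_comp hw hA)
      rw [map_mul, map_mul, zone m1 hm1 hA1, mul_comm (W mt)] at h1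
      exact (mul_right_cancel h1).symm
  have zbase : ∀ c : Code, Z (c, 0) := fun c => by
    rw [axis_split c, ← mulW_base, ← mulW_base]
    exact hmul _ _ (P.in_base _) (In.mul (P.in_base _) (P.in_base _)) (zaxis 0 _)
      (hmul _ _ (P.in_base _) (P.in_base _) (zaxis 1 _) (zaxis 2 _))
  refine ⟨W, fun m hm w hw => ?_⟩
  obtain ⟨c, p⟩ := w
  have hp : P.In (Closed.eC, p) ∧ Z (Closed.eC, p) := by
    rcases perm_cases p with h | ⟨h, h0, h3⟩
    · obtain ⟨q, hq, e⟩ := odd_perm p h
      rw [e]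
      rcases perm_cases q with h' | ⟨-, h0, h3⟩
      · simp only [List.mem_cons, List.not_mem_nil, or_false] at hq h'
        rcases hq with rfl | rfl | rfl <;> simp at h'
      · exact ⟨In.mul (P.in_even _ hq) hT, hmul _ _ (P.in_even _ hq) hT (hcube _ (P.in_even _ hq) h3 h0) zT⟩
    · exact ⟨P.in_even _ h, hcube _ (P.in_even _ h) h3 h0⟩
  rw [split_perm c p] at hw
  have := hmul _ _ (P.in_base c) hp.1 (zbase c) hp.2 m hm hw
  rwa [← split_perm c p] at this

end Hyp

end Cfsg.Agent.O8Three.Wreath
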